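import Groth.Agent.L14.SL2.FieldRed
import Groth.Agent.L14.Splitting.Fibre
import Groth.Agent.L14.RankOne.NonComm
import Groth.Agent.L25.CentralLift.Etale
import Groth.Agent.L25.RedField.WeylInvariant
import Groth.Agent.L14.Luna.SemiRank.SplitField

/-!
# Base change of the special linear group of rank one
-/

set_option autoImplicit false
set_option linter.unusedSectionVars false
set_option linter.style.haveILetI false
set_option backward.isDefEq.respectTransparency.types false
set_option maxHeartbeats 1000000

universe u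

open CategoryTheory CategoryTheory.Limits MonoidalCategory CartesianMonoidalCategory MonObj AlgebraicGeometry
open Groth.L25

noncomputable section

namespace Groth.L14.SL2

variable {R T : Type u} [CommRing R] [CommRing T] (p : Spec (CommRingCat.of T) ⟶ Spec (CommRingCat.of R))

/-- the matrix of a point of the base change -/
def bmat {X : Over (Spec (CommRingCat.of T))} (x : X ⟶ Red.bc p (SL R)) : Matrix (Fin 2) (Fin 2) Γ(X.left, ⊤) :=
  mat (R := R) (X := Over.mk (X.hom ≫ p)) (NilAction.toBase p x)

theorem bmat_injective {X : Over (Spec (CommRingCat.of T))} :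
    Function.Injective (bmat p : (X ⟶ Red.bc p (SL R)) → _) :=
  fun _ _ h => Luna.SemiRank.toBase_inj p (mat_injective h)

theorem bmat_comp {X X' : Over (Spec (CommRingCat.of T))} (f : X' ⟶ X) (x : X ⟶ Red.bc p (SL R)) :
    bmat p (f ≫ x) = (bmat p x).map f.left.appTop := by
  rw [bmat, CentralLift.toBase_comp]
  exact mat_comp _ _

theorem bmat_mul {X : Over (Spec (CommRingCat.of T))} (x y : X ⟶ Red.bc p (SL R)) :
    bmat p (x * y) = bmat p x * bmat p y := by
  rw [bmat, NilAction.toBase_mul]
  exact mat_mul _ _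

theorem det_bmat {X : Over (Spec (CommRingCat.of T))} (x : X ⟶ Red.bc p (SL R)) : (bmat p x).det = 1 :=
  det_mat (NilAction.toBase p x)

/-- the comparison -/
def bcHom : Red.bc p (SL R) ⟶ SL T := mk (bmat p (𝟙 _)) (det_bmat p _)

theorem mat_comp_bcHom {X : Over (Spec (CommRingCat.of T))} (x : X ⟶ Red.bc p (SL R)) :
    mat (x ≫ bcHom p) = bmat p x := by
  rw [mat_comp, bcHom, mat_mk, ← bmat_comp, Category.comp_id]

instance isMonHom_bcHom : IsMonHom (bcHom p) :=
  Groth.L25.Bridge.isMonHom_of_mul (bcHom p) fun Y x y => mat_injective (by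
    rw [mat_comp_bcHom, mat_mul, mat_comp_bcHom, mat_comp_bcHom, bmat_mul])

/-- the inverse comparison -/
def bcInv : SL T ⟶ Red.bc p (SL R) :=
  NilAction.ofBase p (mk (X := Over.mk ((SL T).hom ≫ p)) (mat (R := T) (X := SL T) (𝟙 (SL T))) (det_mat (R := T) (X := SL T) (𝟙 (SL T))))

theorem bmat_bcInv : bmat p (bcInv p) = mat (𝟙 (SL T)) := by
  rw [bmat, bcInv, NilAction.toBase_ofBase, mat_mk]

/-- **base change** -/
def bcIso : Grp.mk (Red.bc p (SL R)) ≅ Grp.mk (SL T) :=
  let e : Red.bc p (SL R) ≅ SL T :=
    ⟨bcHom p, bcInv p,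
      bmat_injective p (by rw [bmat_comp, bmat_bcInv, ← mat_comp, Category.comp_id, ← mat_comp_bcHom, Category.id_comp]),
      mat_injective (by rw [mat_comp_bcHom, bmat_bcInv])⟩
  haveI : IsMonHom e.hom := isMonHom_bcHom p
  Grp.mkIso' e

variable (R) in
/-- **the special linear group of rank one is reductive** -/
theorem isReductive_SL : Red.IsReductive (SL R) := by
  refine ⟨inferInstance, inferInstance, fun s => ?_⟩
  exact Groth.L14.RedLR.isReductiveOver_congr (bcIso (Red.geomPt s)).symm
    (Groth.L25.RedField.isReductiveOver_of_isReductive (isReductive_field _))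

end Groth.L14.SL2
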