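import Groth.Agent.L14.Splitting.CorootSub

/-!
# The splitting of the centralizer of the subtorus killed by a root
-/

set_option autoImplicit false
set_option linter.unusedSectionVars false
set_option linter.style.haveILetI false
set_option linter.deprecated false
set_option backward.isDefEq.respectTransparency.types false
set_option maxHeartbeats 1000000

universe u

open CategoryTheory CategoryTheory.Limits MonoidalCategory CartesianMonoidalCategory MonObj AlgebraicGeometry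
open WithConv TensorProduct
open Groth.L25.Bridge (P)
open Groth.L25 Groth.L14.Splitting

noncomputable section

namespace Groth.L14.SL2

variable {k : Type u} [Field k]

local notation "SK" => Spec (CommRingCat.of k)

/-- **the centralizer of the torus killed by a root is split with two roots** -/
theorem exists_centralizer_splitRed {G T : Over SK} [GrpObj G] [GrpObj T] (hG : Red.IsReductive G) (i : T ⟶ G)
    (hT : Red.IsMaximalTorus i) {M : Type} [AddCommGroup M] (hM : Red.IsSplitTorusWith M T)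
    (α : T ⟶ Red.Gm SK) (hα : LieWt.IsRoot i α)
    {Ta : Over SK} [GrpObj Ta] (j : Ta ⟶ T) [IsMonHom j] (hTa : Red.IsTorus Ta) (hjα : j ≫ α = 1)
    (hmax : ∀ (T' : Over SK) [GrpObj T'] (j' : T' ⟶ T) [IsMonHom j'] [Mono j'],
      Red.IsTorus T' → j' ≫ α = 1 → ∃ f : T' ⟶ Ta, f ≫ j = j')
    {Z : Over SK} [GrpObj Z] (z : Z ⟶ G) (hz : Red.IsCentralizerOf (j ≫ i) z) :
    ∃ (DZ : Red.SplitRed Z) (c₀ : DZ.idx) (τ : DZ.T ⟶ T), IsMonHom τ ∧ IsIso τ ∧ DZ.i ≫ z = τ ≫ i ∧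
      τ ≫ α = DZ.split.hom.hom.hom ≫ Red.chi SK (DZ.P.root c₀) ∧
      ∀ c : DZ.idx, c = c₀ ∨ c = DZ.P.reflectionPerm c₀ c₀ := by
  classical
  haveI := hα.1; haveI := hT.1; haveI := hz.1; haveI := hz.2.1
  obtain ⟨C₀⟩ := Groth.L06.RootLines.exists_coords hG hT hM
  obtain ⟨a, rfl⟩ := C₀.exists_ch α
  obtain ⟨ha, hW⟩ := (C₀.isRoot_ch a).1 hα
  -- coordinates
  let φ : C₀.A →ₐc[k] AddMonoidAlgebra k (Fin C₀.r → ℤ) := C₀.φ
  haveI : IsIso (Groth.L06.RootLines.toDS k C₀.r) := inferInstance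
  let eDS : T ≅ Red.DS SK (Fin C₀.r → ℤ) := C₀.e.symm ≪≫ asIso (Groth.L06.RootLines.toDS k C₀.r)
  haveI : IsMonHom eDS.hom := inferInstanceAs (IsMonHom (C₀.e.inv ≫ Groth.L06.RootLines.toDS k C₀.r))
  haveI hei : IsMonHom eDS.inv := inferInstance
  have hch : C₀.ch a = eDS.hom ≫ Red.chi SK a := by
    show C₀.e.inv ≫ Groth.L06.RootLines.toDS k C₀.r ≫ Red.chi SK a =
      (C₀.e.inv ≫ Groth.L06.RootLines.toDS k C₀.r) ≫ Red.chi SK a
    rw [Category.assoc]
  rw [hch] at hjα hα hmax ⊢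
  let eG : Grp.mk G ≅ Grp.mk (P k C₀.A) := Grp.mkIso' C₀.eq
  have hφ : torHom φ = eDS.inv ≫ i ≫ C₀.eq.hom := by
    rw [← cancel_epi (Groth.L06.RootLines.toDS k C₀.r), toDS_torHom]
    show spB φ = Groth.L06.RootLines.toDS k C₀.r ≫
      (inv (Groth.L06.RootLines.toDS k C₀.r) ≫ C₀.e.hom) ≫ i ≫ C₀.eq.hom
    rw [Category.assoc, IsIso.hom_inv_id_assoc]
    exact C₀.hφ
  have hGA := isReductive_congr eG hG
  obtain ⟨_, _⟩ := smooth_coords hGA.2.1
  have hTA : Red.IsMaximalTorus (torHom φ) := by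
    rw [hφ]
    haveI : IsMonHom eDS.symm.hom := inferInstanceAs (IsMonHom eDS.inv)
    exact Groth.L08.Borel.isMaximalTorus_iso_comp (Groth.L24.TorusField.isMaximalTorus_comp_iso hT C₀.eq) eDS.symm
  obtain ⟨Φ, hR⟩ := exists_constRoots_local φ
  have hs := isMaximalTorus_spB hTA
  let q₀ : PrimeSpectrum k := (⊥ : PrimeSpectrum k).comap (algebraMap k k)
  have hmult : mult φ a q₀ ≠ 0 := by
    rw [← finrank_tanW φ a k, tanW_eq k φ a]
    haveI := (Groth.L06.RootLines.finrank_Tan (K := k) (A := C₀.A)).1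
    haveI := Submodule.finiteDimensional_of_le (Groth.L06.RootLines.Wt_le φ a)
    exact fun h => hW (Submodule.finrank_eq_zero.1 h)
  have haΦ : a ∈ Φ := by
    by_contra h
    exact hmult (hR.off a h ha q₀)
  -- the centralizer in coordinates
  obtain ⟨r', p, a₀, hp, ha₀, hline, hpa, -⟩ := Groth.L14.Luna.SemiRank.exists_line_proj ha
  obtain ⟨H, _, _, ψ, φZ, hψs, hnat, hred, hTZ, -, hvan, hfac, hzH⟩ := exists_centralizer_data hGA hTA p hp
  obtain ⟨_, _⟩ := smooth_coords hred.2.1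
  obtain ⟨cZ⟩ := exists_coord_centralizer p hψs hnat hfac hpa (hR.coord a haΦ).some
  obtain ⟨ΦZ, hRZ⟩ := exists_constRoots_local φZ
  have haZ : a ∈ ΦZ := by
    by_contra h
    exact mult_ne_zero_of_coord cZ q₀ (hRZ.off a h ha q₀)
  have hΦline : ∀ b ∈ ΦZ, ∃ q : ℤ, b = q • a₀ := fun b hb => by
    refine (hline b).1 (by_contra fun hpb => ?_)
    obtain ⟨c⟩ := hRZ.coord b hb
    have h1 := c.hwx
    rw [← c.hx, hvan b c.x hpb, map_zero] at h1
    exact zero_ne_one h1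
  obtain ⟨U, hp', hdat⟩ := exists_datum φZ hRZ hred hTZ (IsLocalRing.closedPoint k)
  have hU : ∀ s : SK, s ∈ U := fun s => (IsLocalRing.specializes_closedPoint s).mem_open U.2 hp'
  obtain ⟨RZ, hroots, hRe⟩ := exists_rootData_of_datum φZ hRZ hred hTZ hdat
  let DZ := RZ.splitRed hU hred hTZ
  let c₀ : DZ.idx := ⟨a, hroots.symm ▸ haZ⟩
  have hDline : ∀ c : DZ.idx, ∃ q : ℤ, DZ.P.root c = q • a₀ := fun c => hΦline c.1 (hroots ▸ c.2)
  -- the two centralizers agree
  haveI : IsMonHom (Red.DSmap SK p) := TorusTorsion.isMonHom_DSmap SK p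
  haveI : Mono (Red.DSmap SK p) := ⟨fun u v e => DSPts.char_injective (MonoidHom.ext fun m => by
    obtain ⟨m', hm'⟩ := hp m.toAdd
    have h1 := congrArg (fun w => DSPts.char w (Multiplicative.ofAdd m')) e
    simp only [SplitSub.char_DSmap] at h1
    rw [show m = Multiplicative.ofAdd (p m') from congrArg Multiplicative.ofAdd hm'.symm]
    exact h1)⟩
  have hkilla : (Red.DSmap SK p ≫ eDS.inv) ≫ eDS.hom ≫ Red.chi SK a = 1 := by
    rw [Category.assoc, Iso.inv_hom_id_assoc, Red.chi, TorusTorsion.DSmap_comp, ← DSmap_zero']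
    congr 1
    refine AddMonoidHom.ext fun n => ?_
    show p ((zmultiplesHom _ a) n) = 0
    rw [zmultiplesHom_apply, map_zsmul, hpa, smul_zero]
  haveI : Mono (Red.DSmap SK p ≫ eDS.inv) := mono_comp _ _
  obtain ⟨g₁, hg₁⟩ := hmax _ (Red.DSmap SK p ≫ eDS.inv) (Groth.L25.RedField.isTorus_split _ _) hkilla
  obtain ⟨l, hl0⟩ : ∃ l : ℤ, a = l • a₀ := (hline a).1 hpa
  haveI : IsMonHom (Red.chi SK a₀) := TorusTorsion.isMonHom_DSmap SK _
  have hjβ : (j ≫ eDS.hom) ≫ Red.chi SK a₀ = 1 := by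
    refine eq_one_of_zpow hTa _ (l := l) (fun h => ha (by rw [hl0, h, zero_smul])) ?_
    rw [← hjα]
    simp only [Category.assoc, Red.chi, TorusTorsion.DSmap_comp]
    congr 3
    refine AddMonoidHom.ext fun n => ?_
    show (zmultiplesHom _ a₀) ((zmultiplesHom ℤ l) n) = (zmultiplesHom _ a) n
    rw [zmultiplesHom_apply, zmultiplesHom_apply, zmultiplesHom_apply, hl0, smul_smul, smul_eq_mul]
  obtain ⟨sec, hsec⟩ : ∃ sec : (Fin r' → ℤ) →+ (Fin C₀.r → ℤ), ∀ n, p (sec n) = n := by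
    obtain ⟨s, hs'⟩ := Module.projective_lifting_property p.toIntLinearMap LinearMap.id hp
    exact ⟨s.toAddMonoidHom, fun n => LinearMap.congr_fun hs' n⟩
  let f₁ : Ta ⟶ Red.DS SK (Fin r' → ℤ) := (j ≫ eDS.hom) ≫ Red.DSmap SK sec
  have hf₁ : f₁ ≫ Red.DSmap SK p = j ≫ eDS.hom := by
    refine DSPts.char_injective (MonoidHom.ext fun m => ?_)
    rw [SplitSub.char_DSmap, SplitSub.char_DSmap]
    show DSPts.char (j ≫ eDS.hom) (Multiplicative.ofAdd (sec (p m.toAdd))) = DSPts.char (j ≫ eDS.hom) m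
    obtain ⟨q, hq⟩ := (hline (m.toAdd - sec (p m.toAdd))).1 (by rw [map_sub, hsec, sub_self])
    have h0 : DSPts.char (j ≫ eDS.hom) (Multiplicative.ofAdd a₀) = 1 := by
      rw [← Luna.SemiRank.gmFn_chi', hjβ, GmPts.gmFn_one]
    have h1 : DSPts.char (j ≫ eDS.hom) (Multiplicative.ofAdd (q • a₀)) = 1 := by
      have e : DSPts.char (j ≫ eDS.hom) (Multiplicative.ofAdd (-a₀)) = 1 := by
        have := map_mul (DSPts.char (j ≫ eDS.hom)) (Multiplicative.ofAdd a₀) (Multiplicative.ofAdd (-a₀))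
        rw [← ofAdd_add, add_neg_cancel, ofAdd_zero, map_one, h0, _root_.one_mul] at this
        exact this.symm
      rcases Int.eq_nat_or_neg q with ⟨w, rfl | rfl⟩
      · rw [natCast_zsmul, ofAdd_nsmul, map_pow, h0, one_pow]
      · rw [neg_smul, natCast_zsmul, ← smul_neg, ofAdd_nsmul, map_pow, e, one_pow]
    conv_rhs => rw [show m = Multiplicative.ofAdd (q • a₀ + sec (p m.toAdd)) by rw [← hq, sub_add_cancel, ofAdd_toAdd],
      ofAdd_add, map_mul, h1, _root_.one_mul]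
  haveI : Mono C₀.eq.inv := inferInstance
  haveI := hzH.1; haveI := hzH.2.1
  have hj' : f₁ ≫ torHom ((AddMonoidAlgebra.mapDomainBialgHom k p).comp φ) = (j ≫ i) ≫ C₀.eq.hom := by
    rw [torHom_mapDomain, hφ, reassoc_of% hf₁, Category.assoc, Iso.hom_inv_id_assoc]
  have hp'' : torHom ((AddMonoidAlgebra.mapDomainBialgHom k p).comp φ) = g₁ ≫ (j ≫ i) ≫ C₀.eq.hom := by
    rw [torHom_mapDomain, hφ, ← Category.assoc _ eDS.inv, ← hg₁]
    simp only [Category.assoc]
  let zH : P k H ⟶ G := spB ψ ≫ C₀.eq.inv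
  haveI : Mono zH := mono_comp _ _
  have hcz : Red.IsCentralizerOf (j ≫ i) zH := by
    refine ⟨inferInstanceAs (IsMonHom (spB ψ ≫ C₀.eq.inv)), inferInstance, fun X g => ⟨fun ⟨w, hw⟩ X' x h => ?_, fun hg => ?_⟩⟩
    · have h1 := (hzH.2.2 X (w ≫ spB ψ)).1 ⟨w, rfl⟩ X' x (h ≫ f₁)
      rw [Category.assoc h f₁, hj'] at h1
      have h2 := congrArg (· ≫ C₀.eq.inv) h1
      simp only [MonObj.mul_comp, Category.assoc, Iso.hom_inv_id, Category.comp_id] at h2
      rw [← hw]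
      exact h2
    · obtain ⟨w, hw⟩ := (hzH.2.2 X (g ≫ C₀.eq.hom)).2 fun X' x h => by
        have h1 := congrArg (· ≫ C₀.eq.hom) (hg X' x (h ≫ g₁))
        simp only [MonObj.mul_comp, Category.assoc] at h1
        rw [hp'']
        simpa only [Category.assoc] using h1
      exact ⟨w, by rw [← Category.assoc, hw, Category.assoc, Iso.hom_inv_id, Category.comp_id]⟩
  obtain ⟨w, hw, hw', hwm, hwm'⟩ := Groth.L08.TorusWeights.exists_iso_centralizer hcz hz
  haveI := hwm; haveI := hwm'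
  have hit : torHom φZ ≫ zH = eDS.inv ≫ i := by
    show torHom φZ ≫ spB ψ ≫ C₀.eq.inv = _
    rw [← Category.assoc, torHom_comp, hnat, hφ]
    simp only [Category.assoc, Iso.hom_inv_id, Category.comp_id]
  haveI : IsMonHom (Grp.mkIso' w).hom.hom.hom := hwm
  let R' := RZ.transport (Grp.mkIso' w) (Iso.refl (Grp.mk (Red.DS SK (Fin C₀.r → ℤ))))
    (i' := torHom φZ ≫ w.hom) (Category.id_comp _)
  let D' := R'.splitRed hU (isReductive_congr (Grp.mkIso' w) hred) (Groth.L24.TorusField.isMaximalTorus_comp_iso hTZ w)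
  refine ⟨D', ⟨a, hroots.symm ▸ haZ⟩, eDS.inv, hei, eDS.isIso_inv, ?_, ?_, fun c => ?_⟩
  · show (torHom φZ ≫ w.hom) ≫ z = _
    rw [Category.assoc, hw]
    exact hit
  · show eDS.inv ≫ eDS.hom ≫ Red.chi SK a = ((𝟙 (Red.DS SK (Fin C₀.r → ℤ))) ≫ RZ.e.hom.hom.hom) ≫ Red.chi SK a
    rw [hRe, Iso.inv_hom_id_assoc]
    rfl
  · haveI : Nonempty SK := ⟨(⊥ : PrimeSpectrum k)⟩
    haveI := Groth.L14.Luna.SemiRank.isReduced_splitRed D'
    let c₀' : D'.idx := ⟨a, hroots.symm ▸ haZ⟩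
    obtain ⟨q', hq'⟩ : ∃ q : ℤ, D'.P.root c = q • a₀ := hΦline c.1 (hroots ▸ c.2)
    have hdep : ¬ LinearIndependent ℤ ![D'.P.root c₀', D'.P.root c] := fun hi => by
      rw [LinearIndependent.pair_iff] at hi
      obtain ⟨q, hq⟩ : ∃ q : ℤ, D'.P.root c₀' = q • a₀ := hΦline a haZ
      have h0 := hi q' (-q) (by
        rw [hq, hq']
        show q' • (q • a₀) + (-q) • (q' • a₀) = (0 : Fin C₀.r → ℤ)
        module)
      exact D'.P.ne_zero c (by rw [hq', h0.1]; exact zero_smul ℤ a₀)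
    rcases RootPairing.IsReduced.eq_or_eq_neg (P := D'.P) c₀' c hdep with e | e
    · exact Or.inl (D'.P.root.injective e).symm
    · refine Or.inr (D'.P.root.injective ?_)
      rw [Groth.L24.RootD.root_neg, e, neg_neg]

end Groth.L14.SL2
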