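import Groth.Agent.L14.SL2.Derived
import Groth.Agent.L14.SL2.CentSplit
import Groth.Agent.L25.DiagIso
import Mathlib.RingTheory.Artinian.Ring
import Mathlib.GroupTheory.FiniteAbelian.Basic

/-!
# The centralizer of the torus killed by a root
-/

set_option autoImplicit false
set_option linter.unusedSectionVars false
set_option linter.style.haveILetI false
set_option backward.isDefEq.respectTransparency.types false
set_option maxHeartbeats 1000000

universe u

open CategoryTheory CategoryTheory.Limits AlgebraicGeometry MonoidalCategory CartesianMonoidalCategory MonObj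
open Groth.L14.RankOne Groth.L25 Groth.L14.Chart Groth.L14.Chev.Cell

noncomputable section

namespace Groth.L14.SL2

variable {k : Type u} [Field k]

local notation "SK" => Spec (CommRingCat.of k)

theorem finite_DS (M : Type) [AddCommGroup M] [Finite M] :
    Finite ↥(Red.DS SK M).left := by
  haveI : IsIso (Groth.L25.DiagIso.theta k M) := inferInstanceAs (IsIso (Groth.L25.DiagIso.isoOver k M).hom)
  haveI : IsArtinianRing (MonoidAlgebra k (Multiplicative M)) := by
    haveI : Finite (Multiplicative M) := inferInstanceAs (Finite M)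
    exact IsArtinianRing.of_finite k _
  let φ := (Groth.L25.DiagIso.theta k M).left
  haveI : IsIso φ := inferInstanceAs (IsIso ((Over.forget _).map (Groth.L25.DiagIso.theta k M)))
  haveI : Finite ↥(Red.diag k M).left :=
    inferInstanceAs (Finite (PrimeSpectrum (MonoidAlgebra k (Multiplicative M))))
  exact Finite.of_surjective φ.base (Scheme.Hom.homeomorph φ).surjective

/-- the doubles -/
def dbl (M : Type) [AddCommGroup M] : AddSubgroup M := (zsmulAddGroupHom (α := M) 2).range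

theorem finite_quot_dbl (M : Type) [AddCommGroup M] [Module.Finite ℤ M] : Finite (M ⧸ dbl M) := by
  haveI : AddGroup.FG M := Module.Finite.iff_addGroup_fg.1 inferInstance
  refine AddCommGroup.finite_of_fg_torsion _ fun x => ?_
  obtain ⟨m, rfl⟩ := QuotientAddGroup.mk'_surjective (dbl M) x
  refine isOfFinAddOrder_iff_nsmul_eq_zero.2 ⟨2, two_pos, ?_⟩
  rw [← map_nsmul]
  exact (QuotientAddGroup.eq_zero_iff _).2 ⟨m, (natCast_zsmul m 2)⟩

/-- a point killing a root and the characters orthogonal to its coroot kills the doubles -/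
theorem kills_dbl {G : Over SK} [GrpObj G] (D : Red.SplitRed G) (a : D.idx) {X : Over SK}
    (x : X ⟶ Red.DS SK D.M) (ha : x ≫ Red.chi SK (D.P.root a) = 1)
    (hN : x ≫ Red.DSmap SK (corN D a).subtype = 1) : x ≫ Red.DSmap SK (dbl D.M).subtype = 1 := by
  refine DSPts.char_injective (MonoidHom.ext fun n => ?_)
  obtain ⟨⟨n, m, rfl⟩, rfl⟩ := Multiplicative.ofAdd.surjective n
  rw [SplitSub.char_DSmap, DSPts.char_one]
  show DSPts.char x (Multiplicative.ofAdd ((2 : ℤ) • m)) = 1
  let F := MonoidHom.toHomUnits (DSPts.char x)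
  have h1 : F (Multiplicative.ofAdd (D.P.root a)) = 1 := Units.ext (by
    have h := congrArg (fun f => DSPts.char f (Multiplicative.ofAdd (1 : ℤ))) ha
    simp only [Red.chi, SplitSub.char_DSmap, DSPts.char_one, MonoidHom.one_apply] at h
    refine Eq.trans ?_ h
    show DSPts.char x (Multiplicative.ofAdd (D.P.root a)) =
      DSPts.char x (Multiplicative.ofAdd ((zmultiplesHom D.M (D.P.root a)) 1))
    rw [zmultiplesHom_apply, one_zsmul])
  have hmem : (2 : ℤ) • m - D.P.coroot a m • D.P.root a ∈ corN D a := by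
    show D.P.coroot a _ = 0
    rw [map_sub, map_zsmul, map_zsmul, Coroot.coroot_root_self, smul_eq_mul, smul_eq_mul]; ring
  have h2 : F (Multiplicative.ofAdd ((2 : ℤ) • m - D.P.coroot a m • D.P.root a)) = 1 := Units.ext (by
    have h := congrArg (fun f => DSPts.char f (Multiplicative.ofAdd (⟨_, hmem⟩ : ↥(corN D a)))) hN
    simp only [SplitSub.char_DSmap, DSPts.char_one, MonoidHom.one_apply] at h
    exact h)
  have h3 : F (Multiplicative.ofAdd ((2 : ℤ) • m)) = 1 := by
    rw [← sub_add_cancel ((2 : ℤ) • m) (D.P.coroot a m • D.P.root a), ofAdd_add, map_mul, h2,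
      ofAdd_zsmul, map_zpow, h1, one_zpow, _root_.one_mul]
  exact congrArg Units.val h3

theorem centralizer_main {G T : Over SK} [GrpObj G] [GrpObj T] (hG : Red.IsReductive G)
    (i : T ⟶ G) (hT : Red.IsMaximalTorus i) {M : Type} [AddCommGroup M] (hM : Red.IsSplitTorusWith M T)
    (α : T ⟶ Red.Gm SK) (hα : LieWt.IsRoot i α)
    {Ta : Over SK} [GrpObj Ta] (j : Ta ⟶ T) [IsMonHom j] [Mono j] (hTa : Red.IsTorus Ta) (hjα : j ≫ α = 1)
    (hmax : ∀ (T' : Over SK) [GrpObj T'] (j' : T' ⟶ T) [IsMonHom j'] [Mono j'],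
      Red.IsTorus T' → j' ≫ α = 1 → ∃ f : T' ⟶ Ta, f ≫ j = j')
    {Z : Over SK} [GrpObj Z] (z : Z ⟶ G) (hz : Red.IsCentralizerOf (j ≫ i) z)
    (jZ : Ta ⟶ Z) [IsMonHom jZ] (hjZ : jZ ≫ z = j ≫ i)
    {D : Over SK} [GrpObj D] (d : D ⟶ Z) [IsMonHom d]
    (hker : ∃ (C : Over SK) (_ : GrpObj C) (f₀ : Z ⟶ C), IsMonHom f₀ ∧
      (∀ (X : Over SK) (a b : X ⟶ C), a * b = b * a) ∧ AlgGrp.IsKernel d f₀)
    (hkill : RedSub.KilledByCommutative d) :
    Surjective ((fst Ta D ≫ jZ) * (snd Ta D ≫ d)).left ∧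
      (∀ (I : Over SK) (p₁ : I ⟶ Ta) (p₂ : I ⟶ D), IsPullback p₁ p₂ jZ d → Finite ↥I.left) ∧
      ((Nonempty (Grp.mk D ≅ Grp.mk (SL k))) ∨
      ∃ (p : SL k ⟶ D) (_ : IsMonHom p) (C : Over SK) (_ : GrpObj C)
        (c : C ⟶ SL k), Red.IsCentre c ∧ RedSub.IsQuotient c p) := by
  classical
  haveI : Nonempty ↥SK := ⟨(⊥ : PrimeSpectrum k)⟩
  haveI := hz.1; haveI := hz.2.1; haveI := hT.1; haveI := hT.2.1
  obtain ⟨DZ, c₀, τ, _, _, hτz, hτα, hidx⟩ :=
    exists_centralizer_splitRed hG i hT hM α hα j hTa hjα hmax z hz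
  refine ⟨?_, fun I p₁ p₂ hI => ?_, ?_⟩
  · obtain ⟨Q, c, r, l, hc, hcm⟩ := exists_mul_cover DZ c₀ hidx d hker hkill
    haveI : Mono (rho DZ c₀ ≫ τ) := mono_comp _ _
    obtain ⟨f, hf⟩ := hmax _ (rho DZ c₀ ≫ τ) (isTorus_rho DZ c₀) (by
      rw [Category.assoc, hτα]
      exact rho_root DZ c₀)
    have hfZ : f ≫ jZ = rho DZ c₀ ≫ DZ.i := by
      rw [← cancel_mono z, Category.assoc, hjZ, ← Category.assoc, hf, Category.assoc, ← hτz, Category.assoc]
    have hfac : lift (r ≫ f) l ≫ ((fst Ta D ≫ jZ) * (snd Ta D ≫ d)) = c := by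
      rw [MonObj.comp_mul, lift_fst_assoc, lift_snd_assoc, Category.assoc, hfZ, hcm]
    haveI := hc
    haveI : Surjective ((lift (r ≫ f) l).left ≫ ((fst Ta D ≫ jZ) * (snd Ta D ≫ d)).left) := by
      rw [← Over.comp_left, hfac]; exact hc
    exact Surjective.of_comp (lift (r ≫ f) l).left _
  · let N := corN DZ c₀
    have hN := corN_spec DZ c₀ hidx
    obtain ⟨F, hF, hFi, -⟩ := Groth.Agent.S5572.result DZ N hN
    haveI := hF
    have hdF : d ≫ F = 1 := (DerGrp.isKernel DZ hN F hFi d hker hkill).w.trans Hom.one_def.symm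
    let y : I ⟶ DZ.T := p₁ ≫ j ≫ inv τ
    have hy : y ≫ DZ.i = p₁ ≫ jZ := by
      rw [← cancel_mono z, Category.assoc, hτz, Category.assoc p₁ jZ, hjZ]
      simp [y]
    let x : I ⟶ Red.DS SK DZ.M := y ≫ DZ.split.hom.hom.hom
    have hxα : x ≫ Red.chi SK (DZ.P.root c₀) = 1 := by
      show (y ≫ _) ≫ _ = _
      rw [Category.assoc, ← hτα]
      simp [y, hjα]
    have hxN : x ≫ Red.DSmap SK N.subtype = 1 := by
      show (y ≫ _) ≫ _ = _
      rw [Category.assoc, ← hFi, ← Category.assoc, hy, hI.w, Category.assoc, hdF, MonObj.comp_one]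
    obtain ⟨h, hh⟩ := DerGrp.exists_fac_quot (dbl DZ.M) x (kills_dbl DZ c₀ x hxα hxN)
    haveI : Mono jZ := ⟨fun u v e => (cancel_mono j).1 ((cancel_mono i).1 (by
      have := congrArg (· ≫ z) e
      simpa [hjZ] using this))⟩
    haveI : Mono x := ⟨fun u v e => by
      haveI : IsIso DZ.split.hom.hom.hom := ⟨DZ.split.inv.hom.hom, split_hom_inv, split_inv_hom⟩
      refine hI.hom_ext ((cancel_mono (j ≫ inv τ ≫ DZ.split.hom.hom.hom)).1 ?_) ?_
      · simpa [x, y, Category.assoc] using e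
      · haveI : Mono d := by
          obtain ⟨C, _, f₀, _, _, hk⟩ := hker
          exact ⟨fun a b h' => hk.hom_ext h' (toUnit_unique _ _)⟩
        rw [← cancel_mono d, Category.assoc, Category.assoc, ← hI.w, ← Category.assoc, ← Category.assoc]
        congr 1
        exact (cancel_mono (j ≫ inv τ ≫ DZ.split.hom.hom.hom)).1 (by simpa [x, y, Category.assoc] using e)⟩
    haveI : Mono h := mono_of_mono_fac hh
    haveI : Mono h.left := inferInstanceAs (Mono ((Over.forget _).map h))
    haveI := finite_quot_dbl DZ.M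
    haveI := finite_DS (k := k) (DZ.M ⧸ dbl DZ.M)
    exact Finite.of_injective h.left.base h.left.injective
  · obtain ⟨p, hp, -, _, _, _, hiso, hkp⟩ := exists_cover_derived DZ c₀ hidx d hker hkill
    by_cases h1 : (1 : ℤ) ∈ LinearMap.range (DZ.P.coroot c₀)
    · haveI := hiso h1
      exact Or.inl ⟨(Grp.mkIso' (asIso p)).symm⟩
    · haveI : Mono (cen (R := k) ≫ tor k) := (isCentre_cen (R := k)).2.1
      exact Or.inr ⟨p, hp, _, inferInstance, cen ≫ tor k, isCentre_cen, isQuotient_of_kernel _ p (hkp h1)⟩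

end Groth.L14.SL2
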