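import Groth.Agent.L14.SL2.RankOne
import Groth.Agent.L14.DerGrp.Split
import Groth.Agent.S5564
import Mathlib.RingTheory.Artinian.Ring

/-!
# The derived group of a split group with two roots
-/

set_option autoImplicit false
universe u

open CategoryTheory CategoryTheory.Limits AlgebraicGeometry MonoidalCategory CartesianMonoidalCategory MonObj
open Groth.L14.RankOne Groth.L25 Groth.L14.Chart Groth.L14.Chev.Cell

set_option backward.isDefEq.respectTransparency.types false
set_option linter.style.haveILetI false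
set_option linter.unusedSectionVars false
set_option maxHeartbeats 1000000

noncomputable section

namespace Groth.L14.SL2

variable {R : Type u} [CommRing R] [Nonempty ↥(Spec (CommRingCat.of R))]
  {G : Over (Spec (CommRingCat.of R))} [GrpObj G] (D : Red.SplitRed G) (a : D.idx)
  (hidx : ∀ c : D.idx, c = a ∨ c = D.P.reflectionPerm a a)

/-- the characters orthogonal to the coroot -/
def corN : AddSubgroup D.M := (D.P.coroot a).toAddMonoidHom.ker

include hidx in
theorem corN_spec (m : D.M) : m ∈ corN D a ↔ ∀ c : D.idx, D.P.coroot c m = 0 := by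
  refine ⟨fun h c => ?_, fun h => h a⟩
  rcases hidx c with rfl | rfl
  · exact h
  · rw [coroot_neg' D.P a, LinearMap.neg_apply, show D.P.coroot a m = 0 from h, neg_zero]

variable {D' : Over (Spec (CommRingCat.of R))} [GrpObj D'] (d : D' ⟶ G) [IsMonHom d]

include hidx in
/-- **the derived group** -/
theorem exists_cover_derived
    (hker : ∃ (C : Over (Spec (CommRingCat.of R))) (_ : GrpObj C) (f₀ : G ⟶ C), IsMonHom f₀ ∧
      (∀ (X : Over (Spec (CommRingCat.of R))) (x y : X ⟶ C), x * y = y * x) ∧ AlgGrp.IsKernel d f₀)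
    (hkill : RedSub.KilledByCommutative d) :
    ∃ p : SL R ⟶ D', IsMonHom p ∧ tor R ≫ p ≫ d = Coroot.coav D a ≫ D.i ∧ Flat p.left ∧ Surjective p.left ∧
      LocallyOfFinitePresentation p.left ∧
      ((1 : ℤ) ∈ LinearMap.range (D.P.coroot a) → IsIso p) ∧
      ((1 : ℤ) ∉ LinearMap.range (D.P.coroot a) → AlgGrp.IsKernel (cen (R := R) ≫ tor R) p) := by
  classical
  let N := corN D a
  have hN := corN_spec D a hidx
  obtain ⟨Dd, τ, eidx, em, hτi, hτs, hroot, -⟩ := Groth.Agent.S5564.result D d hker hkill N hN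
  let a' : Dd.idx := eidx.symm a
  let ψ : D.M →+ ℤ := (D.P.coroot a).toAddMonoidHom
  let g : D.M →+ Dd.M := em.symm.toAddMonoidHom.comp (QuotientAddGroup.mk' N)
  have hgs : Function.Surjective g := fun x => by
    obtain ⟨m, hm⟩ := QuotientAddGroup.mk'_surjective N (em x)
    exact ⟨m, by show em.symm (QuotientAddGroup.mk' N m) = x; rw [hm, em.symm_apply_apply]⟩
  have hga : g (D.P.root a) = Dd.P.root a' := by
    show em.symm (QuotientAddGroup.mk' N (D.P.root a)) = _
    rw [show QuotientAddGroup.mk' N (D.P.root a) = em (Dd.P.root a') by rw [hroot, Equiv.apply_symm_apply],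
      em.symm_apply_apply]
  have hψa : ψ (D.P.root a) = 2 := Coroot.coroot_root_self a
  have hco : ∀ m, Dd.P.coroot a' (g m) = ψ m := by
    intro m
    have h0 : g ((2 : ℤ) • m - ψ m • D.P.root a) = 0 := by
      show em.symm (QuotientAddGroup.mk' N _) = 0
      rw [show QuotientAddGroup.mk' N ((2 : ℤ) • m - ψ m • D.P.root a) = 0 from (QuotientAddGroup.eq_zero_iff _).2 (by
        show ψ _ = 0
        rw [map_sub, map_zsmul, map_zsmul, hψa, smul_eq_mul, smul_eq_mul]; ring), map_zero]
    have h1 := congrArg (Dd.P.coroot a') h0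
    rw [map_sub, map_zsmul, map_zsmul, hga, map_zero, map_sub, map_zsmul, map_zsmul, Coroot.coroot_root_self,
      smul_eq_mul, smul_eq_mul, sub_eq_zero, _root_.mul_comm (ψ m)] at h1
    exact mul_left_cancel₀ two_ne_zero h1
  have hinj : Function.Injective (Dd.P.coroot a') := (injective_iff_map_eq_zero _).2 fun x hx => by
    obtain ⟨m, rfl⟩ := hgs x
    rw [hco] at hx
    show em.symm (QuotientAddGroup.mk' N m) = 0
    rw [show QuotientAddGroup.mk' N m = 0 from (QuotientAddGroup.eq_zero_iff _).2 hx, map_zero]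
  have hidx' : ∀ c : Dd.idx, c = a' ∨ c = Dd.P.reflectionPerm a' a' := by
    intro c
    rcases hidx (eidx c) with h | h
    · exact Or.inl (by rw [← eidx.symm_apply_apply c, h])
    · refine Or.inr (Dd.P.root.injective (em.injective ?_))
      rw [root_neg' Dd.P a', map_neg, hroot, hroot, h, root_neg' D.P a, map_neg, Equiv.apply_symm_apply]
  obtain ⟨p, hp, hpT, hfl, hsu, hlfp, hiso, hker'⟩ := rank_one Dd a' hidx' hinj
  have hrange : ((1 : ℤ) ∈ LinearMap.range (Dd.P.coroot a')) ↔ (1 : ℤ) ∈ LinearMap.range (D.P.coroot a) := by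
    constructor
    · rintro ⟨x, hx⟩
      obtain ⟨m, rfl⟩ := hgs x
      exact ⟨m, (hco m).symm.trans hx⟩
    · rintro ⟨m, hm⟩
      exact ⟨g m, (hco m).trans hm⟩
  refine ⟨p, hp, ?_, hfl, hsu, hlfp, fun h => hiso (hrange.2 h), fun h => hker' fun h' => h (hrange.1 h')⟩
  haveI : IsIso D.split.hom.hom.hom := ⟨D.split.inv.hom.hom, split_hom_inv, split_inv_hom⟩
  have hc : Coroot.coav Dd a' ≫ τ = Coroot.coav D a := by
    show (Red.DSmap (Spec (CommRingCat.of R)) (Dd.P.coroot a').toAddMonoidHom ≫ Dd.split.inv.hom.hom) ≫ τ =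
      Red.DSmap (Spec (CommRingCat.of R)) (D.P.coroot a).toAddMonoidHom ≫ D.split.inv.hom.hom
    rw [← cancel_mono D.split.hom.hom.hom, Category.assoc, Category.assoc, Category.assoc, hτs, split_inv_hom,
      Category.comp_id, ← Category.assoc Dd.split.inv.hom.hom, split_inv_hom, Category.id_comp, TorusTorsion.DSmap_comp]
    congr 1
    exact AddMonoidHom.ext hco
  rw [reassoc_of% hpT, ← hτi, reassoc_of% hc]
  exact (Category.assoc _ _ _).symm

/-- the twice projection away from the root -/
def pr : D.M →+ D.M :=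
  AddMonoidHom.mk' (fun m => (2 : ℤ) • m - D.P.coroot a m • D.P.root a) fun x y => by
    rw [map_add, smul_add, add_smul]; abel

theorem pr_root : pr D a (D.P.root a) = 0 := by
  show (2 : ℤ) • D.P.root a - D.P.coroot a (D.P.root a) • D.P.root a = 0
  rw [Coroot.coroot_root_self, sub_self]

/-- the torus killed by the root -/
def rho : Red.DS (Spec (CommRingCat.of R)) ↥(pr D a).range ⟶ D.T :=
  Red.DSmap (Spec (CommRingCat.of R)) (pr D a).rangeRestrict ≫ D.split.inv.hom.hom

instance isMonHom_rho : IsMonHom (rho D a) := by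
  haveI : IsMonHom (Red.DSmap (Spec (CommRingCat.of R)) (pr D a).rangeRestrict) := TorusTorsion.isMonHom_DSmap _ _
  exact inferInstanceAs (IsMonHom (Red.DSmap _ _ ≫ D.split.inv.hom.hom))

instance mono_rho : Mono (rho D a) := by
  haveI := DerGrp.mono_DSmap_surj (S := Spec (CommRingCat.of R)) (pr D a).rangeRestrict
    (AddMonoidHom.rangeRestrict_surjective _)
  haveI : IsIso D.split.inv.hom.hom := ⟨D.split.hom.hom.hom, split_inv_hom, split_hom_inv⟩
  exact inferInstanceAs (Mono (_ ≫ _))

theorem rho_root : rho D a ≫ D.split.hom.hom.hom ≫ Red.chi _ (D.P.root a) = 1 := by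
  rw [rho, Category.assoc, ← Category.assoc D.split.inv.hom.hom, split_inv_hom, Category.id_comp, Red.chi,
    TorusTorsion.DSmap_comp, ← Groth.L08.Borel.DSmap_zero']
  congr 1
  refine AddMonoidHom.ext fun n => Subtype.ext ?_
  show pr D a (n • D.P.root a) = 0
  rw [map_zsmul, pr_root, smul_zero]

theorem isTorus_rho : Red.IsTorus (Red.DS (Spec (CommRingCat.of R)) ↥(pr D a).range) := by
  haveI : Module.Finite ℤ ↥(pr D a).range :=
    Module.Finite.of_surjective (pr D a).rangeRestrict.toIntLinearMap (AddMonoidHom.rangeRestrict_surjective _)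
  haveI : Module.IsTorsionFree ℤ ↥(pr D a).range := by
    refine Module.isTorsionFree_iff_smul_eq_zero.2 fun k x h => ?_
    rcases smul_eq_zero.1 (congrArg Subtype.val h : k • (x : D.M) = 0) with h | h
    · exact Or.inl h
    · exact Or.inr (Subtype.ext h)
  haveI : Module.Free ℤ ↥(pr D a).range := Module.free_of_finite_type_torsion_free'
  exact TorLift.isTorus_of_iso (TorLift.dsCongr (Spec (CommRingCat.of R))
    (Module.finBasis ℤ ↥(pr D a).range).equivFun.toAddEquiv).symm (Groth.L08.Borel.isTorus_ds _ _)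

include hidx in
theorem exists_mul_cover
    (hker : ∃ (C : Over (Spec (CommRingCat.of R))) (_ : GrpObj C) (f₀ : G ⟶ C), IsMonHom f₀ ∧
      (∀ (X : Over (Spec (CommRingCat.of R))) (x y : X ⟶ C), x * y = y * x) ∧ AlgGrp.IsKernel d f₀)
    (hkill : RedSub.KilledByCommutative d) :
    ∃ (Q : Over (Spec (CommRingCat.of R))) (c : Q ⟶ G) (r : Q ⟶ Red.DS (Spec (CommRingCat.of R)) ↥(pr D a).range)
      (l : Q ⟶ D'), Surjective c.left ∧ c = (r ≫ rho D a ≫ D.i) * (l ≫ d) := by
  haveI := isMonHom_i (D := D)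
  let S := Spec (CommRingCat.of R)
  let N := corN D a
  have hN := corN_spec D a hidx
  obtain ⟨F, hF, hFi, -⟩ := Groth.Agent.S5572.result D N hN
  haveI := hF
  have hk := DerGrp.isKernel D hN F hFi d hker hkill
  let η' : ↥N →+ ↥(pr D a).range := (pr D a).rangeRestrict.comp N.subtype
  have hη : Function.Injective η' := (injective_iff_map_eq_zero _).2 fun n hn => Subtype.ext (by
    have h : (2 : ℤ) • (n : D.M) - D.P.coroot a (n : D.M) • D.P.root a = 0 := congrArg Subtype.val hn
    rw [show D.P.coroot a (n : D.M) = 0 from n.2, zero_smul, sub_zero] at h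
    exact (smul_eq_zero.1 h).resolve_left two_ne_zero)
  obtain ⟨hfl, hsu, -⟩ := SplitSub.DSmap_cover (S := S) η' hη
  have hu : (rho D a ≫ D.i) ≫ F = Red.DSmap S η' := by
    rw [Category.assoc, hFi, rho, Category.assoc, ← Category.assoc D.split.inv.hom.hom, split_inv_hom,
      Category.id_comp, TorusTorsion.DSmap_comp]
  let Q : Over S := Over.mk (pullback.fst F.left (Red.DSmap S η').left ≫ G.hom)
  let c : Q ⟶ G := Over.homMk (pullback.fst F.left (Red.DSmap S η').left)
  let r : Q ⟶ Red.DS S ↥(pr D a).range := Over.homMk (pullback.snd F.left (Red.DSmap S η').left) (by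
    show pullback.snd _ _ ≫ _ = pullback.fst _ _ ≫ G.hom
    rw [← Over.w (Red.DSmap S η'), ← pullback.condition_assoc, Over.w F])
  have hc : c ≫ F = r ≫ Red.DSmap S η' := Over.OverMorphism.ext pullback.condition
  obtain ⟨l, hl⟩ := DerGrp.exists_lift D d F hk ((r ≫ rho D a ≫ D.i)⁻¹ * c) (by
    let Φ : (Q ⟶ G) →* (Q ⟶ Red.DS S ↥N) := MonoidHom.mk' (fun p => p ≫ F) fun p q => MonObj.mul_comp p q F
    show Φ ((r ≫ rho D a ≫ D.i)⁻¹ * c) = 1
    rw [map_mul, map_inv]
    show ((r ≫ rho D a ≫ D.i) ≫ F)⁻¹ * (c ≫ F) = 1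
    rw [Category.assoc, hu, hc, inv_mul_cancel])
  exact ⟨Q, c, r, l, MorphismProperty.pullback_fst (P := @Surjective) _ _ hsu, by rw [hl, mul_inv_cancel_left]⟩

end Groth.L14.SL2
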