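import Groth.Agent.L14.SL2.Pts
import Groth.Agent.L08.GLn.Inst
import Groth.Agent.L08.CartierRed
import Groth.Agent.S8091
import Groth.Agent.S9407

/-!
# The special linear group of rank one over an algebraically closed field is reductive
-/

set_option autoImplicit false
set_option linter.unusedSectionVars false
set_option linter.style.haveILetI false
set_option backward.isDefEq.respectTransparency.types false
set_option maxHeartbeats 1000000

universe u

open CategoryTheory MonoidalCategory CartesianMonoidalCategory MonObj AlgebraicGeometry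
open TensorProduct MvPolynomial

noncomputable section

namespace Groth.L14.SL2

variable (k : Type u) [Field k]

/-- upper unipotent matrix -/
def uMat {B : Type*} [CommRing B] (x : B) : Matrix (Fin 2) (Fin 2) B := !![1, x; 0, 1]

/-- lower unipotent matrix -/
def vMat {B : Type*} [CommRing B] (y : B) : Matrix (Fin 2) (Fin 2) B := !![1, 0; y, 1]

theorem det_uMat {B : Type*} [CommRing B] (x : B) : (uMat x).det = 1 := by
  simp [uMat, Matrix.det_fin_two]

theorem det_vMat {B : Type*} [CommRing B] (y : B) : (vMat y).det = 1 := by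
  simp [vMat, Matrix.det_fin_two]

theorem exists_word [IsAlgClosed k] (M : Matrix (Fin 2) (Fin 2) k) (h : M.det = 1) :
    ∃ x : Fin 4 → k, M = vMat (x 0) * uMat (x 1) * vMat (x 2) * uMat (x 3) := by
  rw [Matrix.det_fin_two] at h
  by_cases hb : M 0 1 = 0
  · have ha : M 0 0 ≠ 0 := fun h0 => by simp [hb, h0] at h
    refine ⟨![((M 1 0 + M 1 1) - 1) / M 0 0, M 0 0, (M 0 0 - 1) / M 0 0, -1], ?_⟩
    have hd : M 1 1 = 1 / M 0 0 := by
      rw [eq_div_iff ha]; rw [hb] at h; linear_combination h
    ext i j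
    fin_cases i <;> fin_cases j <;> simp [uMat, vMat, Matrix.mul_apply, Fin.sum_univ_two, hb, hd] <;> field_simp <;> ring
  · refine ⟨![(M 1 1 - 1) / M 0 1, M 0 1, (M 0 0 - 1) / M 0 1, 0], ?_⟩
    have hc : M 1 0 = (M 0 0 * M 1 1 - 1) / M 0 1 := by
      rw [eq_div_iff hb]; linear_combination -h
    ext i j
    fin_cases i <;> fin_cases j <;> simp [uMat, vMat, Matrix.mul_apply, Fin.sum_univ_two, hc] <;> field_simp <;> ring

/-- the product of four unipotents -/
def wordHom : CoordGrp.SLn 2 k →ₐ[k] MvPolynomial (Fin 4) k :=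
  CoordGrp.SLn.pt 2 k (vMat (X 0) * uMat (X 1) * vMat (X 2) * uMat (X 3)) (by
    simp only [Matrix.det_mul, det_uMat, det_vMat, _root_.mul_one])

theorem injective_wordHom [IsAlgClosed k] : Function.Injective (wordHom k) := by
  haveI : IsReduced (CoordGrp.SLn 2 k) := Groth.Agent.S9407.isReduced_of_field k (CoordGrp.SLn 2 k)
  haveI : IsJacobsonRing (CoordGrp.SLn 2 k) := isJacobsonRing_of_finiteType (A := k) (B := CoordGrp.SLn 2 k)
  rw [injective_iff_map_eq_zero]
  intro f hf
  have hpt : ∀ χ : CoordGrp.SLn 2 k →ₐ[k] k, χ f = 0 := fun χ => by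
    let M : Matrix (Fin 2) (Fin 2) k := fun i j => χ (CoordGrp.SLn.X i j)
    have hM : M.det = 1 := by
      have h : M = ((χ.comp (CoordGrp.SLn.mk 2 k)).mapMatrix (CoordGrp.GLn.genMat 2 k)) := rfl
      rw [h, ← AlgHom.map_det, ← CoordGrp.GLn.det_eq, AlgHom.comp_apply, CoordGrp.SLn.det_eq_one, map_one]
    obtain ⟨x, hx⟩ := exists_word k M hM
    have e : χ = (aeval x).comp (wordHom k) := algHom_ext' fun i j => by
      rw [AlgHom.comp_apply, wordHom, CoordGrp.SLn.pt_X]
      show M i j = _
      rw [hx]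
      fin_cases i <;> fin_cases j <;> simp [uMat, vMat, Matrix.mul_apply, Fin.sum_univ_two]
    rw [e, AlgHom.comp_apply, hf, map_zero]
  have hmem : f ∈ (⊥ : Ideal (CoordGrp.SLn 2 k)).jacobson := by
    rw [Ideal.jacobson, Submodule.mem_sInf]
    rintro m ⟨-, hm⟩
    haveI := hm
    obtain ⟨χ, hχ⟩ := Groth.L08.CartierRed.exists_point_of_isMaximal (k := k) m
    simpa [hpt χ] using hχ f
  rwa [← Ideal.radical_eq_jacobson, (Ideal.isRadical_bot (R := CoordGrp.SLn 2 k)).radical] at hmem

theorem isDomain [IsAlgClosed k] : IsDomain (CoordGrp.SLn 2 k) :=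
  (injective_wordHom k).isDomain

/-- the standard representation -/
abbrev std : HopfRep.Comod k (CoordGrp.SLn 2 k) (Fin 2 → k) := Groth.L08.GLn.stdB (Groth.L08.GLn.toSL 2 k)

theorem coact_single (i : Fin 2) : (std k).coact (Pi.single i 1) =
    ∑ j, (Pi.single j (1 : k)) ⊗ₜ[k] (CoordGrp.SLn.X j i : CoordGrp.SLn 2 k) := by
  rw [Groth.L08.GLn.stdB_coact_single]
  refine Finset.sum_congr rfl fun j _ => ?_
  congr 1
  show CoordGrp.SLn.mk 2 k (CoordGrp.Mat.toGLn 2 k (CoordGrp.Mat.X j i)) = _
  rw [CoordGrp.Mat.toGLn_X]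
  rfl

theorem isSemisimple_std : @HopfRep.IsSemisimpleComod k (CoordGrp.SLn 2 k) _ _ _ _ (Fin 2 → k) _ _ (std k) := by
  letI := std k
  intro W hW
  rcases eq_or_ne W ⊥ with rfl | hne
  · exact ⟨⊤, fun w _ => by
      refine ⟨(LinearEquiv.ofTop (⊤ : Submodule k (Fin 2 → k)) rfl).symm.toLinearMap.rTensor _
        (HopfRep.Comod.coact (k := k) (A := CoordGrp.SLn 2 k) w), ?_⟩
      rw [← LinearMap.comp_apply, ← LinearMap.rTensor_comp]
      exact LinearMap.congr_fun (LinearMap.rTensor_id _ _) _, isCompl_bot_top⟩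
  suffices W = ⊤ by
    subst this
    exact ⟨⊥, fun w hw => by rw [(Submodule.mem_bot k).1 hw, map_zero]; exact zero_mem _, isCompl_top_bot⟩
  have hact : ∀ (M : Matrix (Fin 2) (Fin 2) k) (hM : M.det = 1) (w : Fin 2 → k), w ∈ W → M.mulVec w ∈ W := by
    intro M hM w hw
    obtain ⟨y, hy⟩ := hW w hw
    let ev : (Fin 2 → k) ⊗[k] CoordGrp.SLn 2 k →ₗ[k] (Fin 2 → k) :=
      (TensorProduct.rid k _).toLinearMap ∘ₗ (CoordGrp.SLn.pt 2 k M hM).toLinearMap.lTensor _
    have h1 : ev (HopfRep.Comod.coact (k := k) (A := CoordGrp.SLn 2 k) w) = M.mulVec w := by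
      have hlin : ev ∘ₗ HopfRep.Comod.coact (k := k) (A := CoordGrp.SLn 2 k) = M.mulVecLin := by
        refine (Pi.basisFun k (Fin 2)).ext fun i => ?_
        simp only [Pi.basisFun_apply, LinearMap.comp_apply, Matrix.mulVecLin_apply]
        rw [show HopfRep.Comod.coact (k := k) (A := CoordGrp.SLn 2 k) (Pi.single i 1) = _ from coact_single k i]
        simp only [ev, map_sum, LinearMap.comp_apply, LinearMap.lTensor_tmul, AlgHom.toLinearMap_apply,
          CoordGrp.SLn.pt_X, LinearEquiv.coe_coe, TensorProduct.rid_tmul]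
        funext j
        simp [Matrix.mulVec_single, Finset.sum_apply, Pi.single_apply]
      exact LinearMap.congr_fun hlin w
    rw [← h1, ← hy]
    clear hy h1
    induction y using TensorProduct.induction_on with
    | zero => simp
    | tmul a b => simp only [ev, LinearMap.comp_apply, LinearMap.rTensor_tmul, LinearMap.lTensor_tmul,
        LinearEquiv.coe_coe, TensorProduct.rid_tmul]; exact W.smul_mem _ a.2
    | add a b ha hb => rw [map_add, map_add]; exact add_mem ha hb
  obtain ⟨w, hw, hw0⟩ := Submodule.exists_mem_ne_zero_of_ne_bot hne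
  have he : Pi.single 0 (w 1) ∈ W ∧ Pi.single 1 (w 0) ∈ W := by
    refine ⟨?_, ?_⟩
    · convert sub_mem (hact _ (det_uMat (1 : k)) w hw) hw using 1
      funext j
      fin_cases j <;> simp [uMat, Matrix.mulVec, dotProduct, Fin.sum_univ_two]
    · convert sub_mem (hact _ (det_vMat (1 : k)) w hw) hw using 1
      funext j
      fin_cases j <;> simp [vMat, Matrix.mulVec, dotProduct, Fin.sum_univ_two]
  have hsw : ∀ (i : Fin 2) (c : k), c ≠ 0 → Pi.single i c ∈ W → Pi.single i (1 : k) ∈ W := fun i c hc h => by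
    convert W.smul_mem c⁻¹ h using 1
    rw [← Pi.single_smul, smul_eq_mul, inv_mul_cancel₀ hc]
  have h01 : Pi.single 0 (1 : k) ∈ W ∧ Pi.single 1 (1 : k) ∈ W := by
    by_cases h1 : w 1 = 0
    · have h0 : w 0 ≠ 0 := fun h0 => hw0 (funext fun j => by fin_cases j <;> assumption)
      have e1 := hsw 1 _ h0 he.2
      refine ⟨?_, e1⟩
      convert sub_mem (hact _ (det_uMat (1 : k)) _ e1) e1 using 1
      funext j
      fin_cases j <;> simp [uMat, Matrix.mulVec, dotProduct, Fin.sum_univ_two]
    · have e0 := hsw 0 _ h1 he.1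
      refine ⟨e0, ?_⟩
      convert sub_mem (hact _ (det_vMat (1 : k)) _ e0) e0 using 1
      funext j
      fin_cases j <;> simp [vMat, Matrix.mulVec, dotProduct, Fin.sum_univ_two]
  rw [eq_top_iff, ← (Pi.basisFun k (Fin 2)).span_eq, Submodule.span_le]
  rintro _ ⟨i, rfl⟩
  rw [Pi.basisFun_apply]
  fin_cases i
  · exact h01.1
  · exact h01.2

theorem isReductive_field [IsAlgClosed k] : Red.IsReductive (SL k) := by
  haveI := isDomain k
  haveI : IsReduced (CoordGrp.SLn 2 k) := inferInstance
  haveI : Algebra.FiniteType k (CoordGrp.SLn 2 k) := inferInstance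
  haveI : ConnectedSpace ↥(Spec (CommRingCat.of (CoordGrp.SLn 2 k))) :=
    inferInstanceAs (ConnectedSpace (PrimeSpectrum (CoordGrp.SLn 2 k)))
  letI := std k
  refine Groth.Agent.S8091.result k (CoordGrp.SLn 2 k) (Fin 2 → k) (isSemisimple_std k) fun R _ _ g hg => ?_
  refine algHom_ext' fun i j => ?_
  have h := congrArg (fun z => TensorProduct.lid k R ((LinearMap.proj i : (Fin 2 → k) →ₗ[k] k).rTensor R z))
    (hg (Pi.single j 1))
  beta_reduce at h
  rw [show HopfRep.Comod.coact (k := k) (A := CoordGrp.SLn 2 k) (Pi.single j 1) = _ from coact_single k j, map_sum,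
    map_sum, map_sum, Finset.sum_eq_single i (fun l _ hl => by simp [Pi.single_eq_of_ne (Ne.symm hl)]) (by simp)] at h
  simp only [LinearMap.lTensor_tmul, LinearMap.rTensor_tmul, AlgHom.toLinearMap_apply, LinearMap.proj_apply,
    Pi.single_eq_same, TensorProduct.lid_tmul, one_smul] at h
  rw [h, AlgHom.comp_apply, Bialgebra.counitAlgHom_apply, counit_slX, Pi.single_apply]
  split <;> simp

end Groth.L14.SL2
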