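import Groth.Agent.L14.SL2.Quot
import Groth.Agent.L14.Splitting.General

/-!
# Groups of semisimple rank one with centre of order two
-/

set_option autoImplicit false
set_option linter.unusedSectionVars false
set_option linter.style.haveILetI false
set_option backward.isDefEq.respectTransparency.types false
set_option maxHeartbeats 1000000

universe u

open CategoryTheory CategoryTheory.Limits AlgebraicGeometry MonoidalCategory CartesianMonoidalCategory MonObj
open Groth.L14.RankOne Groth.L25 Groth.L14.Chart Groth.L14.Chev.Cell Groth.L14.Splitting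

noncomputable section

namespace Groth.L14.SL2

/-- the centre is trivial for even coroots of rank one -/
theorem not_centre_of_even {L : Type u} [Field L] {G : Over (Spec (CommRingCat.of L))} [GrpObj G]
    (D : Red.SplitRed G) (a : D.idx) (hidx : ∀ c : D.idx, c = a ∨ c = D.P.reflectionPerm a a)
    (hinj : Function.Injective (D.P.coroot a)) (heven : ∀ m : D.M, (2 : ℤ) ∣ D.P.coroot a m)
    (Z : Over (Spec (CommRingCat.of L))) [GrpObj Z] (z : Z ⟶ G) (hz : Red.IsCentre z) :
    ¬ Nonempty (Grp.mk Z ≅ Grp.mk (Red.DS (Spec (CommRingCat.of L)) (ZMod 2))) := by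
  rintro ⟨e⟩
  haveI : Nonempty ↥(Spec (CommRingCat.of L)) := ⟨(⊥ : PrimeSpectrum L)⟩
  haveI := isMonHom_i (D := D)
  haveI := hz.1; haveI := hz.2.1
  have hcen := (hz.2.2 Z z).1 ⟨𝟙 Z, Category.id_comp z⟩
  obtain ⟨t, ht, hta⟩ := (pair_central_iff D a hidx z).1 fun X' x h => by
    simpa only [Category.comp_id] using hcen X' x h
  have hgen : ∀ m : D.M, ∃ j : ℤ, m = j • D.P.root a := fun m => by
    obtain ⟨j, hj⟩ := heven m
    refine ⟨j, hinj ?_⟩
    rw [map_zsmul, Coroot.coroot_root_self, hj, smul_eq_mul, _root_.mul_comm]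
  have ht1 : t ≫ D.split.hom.hom.hom = 1 := by
    refine DSPts.char_injective (MonoidHom.ext fun m' => ?_)
    obtain ⟨m, rfl⟩ := Multiplicative.ofAdd.surjective m'
    obtain ⟨j, rfl⟩ := hgen m
    rw [DSPts.char_one]
    let U := MonoidHom.toHomUnits (DSPts.char (t ≫ D.split.hom.hom.hom))
    have e1 : U (Multiplicative.ofAdd (D.P.root a)) = 1 := Units.ext (by
      have h := congrArg (fun g => Red.gmFn g) hta
      simp only [GmPts.gmFn_one] at h
      rw [Coroot.gmFn_chi_char] at h
      exact h)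
    have e2 : U (Multiplicative.ofAdd (j • D.P.root a)) = 1 := by
      rw [ofAdd_zsmul, map_zpow, e1, one_zpow]
    exact congrArg Units.val e2
  have hz1 : z = 1 := by
    haveI : IsIso D.split.hom.hom.hom := ⟨D.split.inv.hom.hom, split_hom_inv, split_inv_hom⟩
    rw [← ht, show t = 1 by rw [← cancel_mono D.split.hom.hom.hom, MonObj.one_comp]; exact ht1, MonObj.one_comp]
  have hid : (𝟙 (Red.DS (Spec (CommRingCat.of L)) (ZMod 2))) = 1 := by
    have h1 : 𝟙 Z = 1 := by rw [← cancel_mono z, Category.id_comp, MonObj.one_comp, hz1]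
    haveI : IsMonHom e.hom.hom.hom := e.hom.hom.isMonHom_hom
    have h2 := congrArg (fun g => e.inv.hom.hom ≫ g ≫ e.hom.hom.hom) h1
    simp only [Category.id_comp, MonObj.one_comp, MonObj.comp_one] at h2
    exact (congrArg (fun f => f.hom.hom) e.inv_hom_id).symm.trans h2
  rw [← TorusTorsion.DSmap_id, ← Groth.L08.Borel.DSmap_zero'] at hid
  exact absurd (DFunLike.congr_fun (Groth.Agent.S14754.DSmap_injective (k := L) hid) (1 : ZMod 2)) (by decide)

variable {S : Scheme.{u}} {G T : Over S} [GrpObj G] [GrpObj T]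

theorem exists_nhd_iso_SL (hG : Red.IsReductive G) (i : T ⟶ G) (hT : Red.IsMaximalTorus i)
    (hspl : Red.IsSplitTorusWith ℤ T) (hdim : ∀ s : S, topologicalKrullDim ↥(Red.geomFibre s G).left = 3)
    (hZ : ∀ s : S, ∃ (Z : Over (Spec (CommRingCat.of (AlgebraicClosure (S.residueField s))))) (_ : GrpObj Z)
      (z : Z ⟶ Red.geomFibre s G), Red.IsCentre z ∧
        Nonempty (Grp.mk Z ≅ Grp.mk (Red.DS (Spec (CommRingCat.of (AlgebraicClosure (S.residueField s)))) (ZMod 2))))
    (s : S) :
    ∃ (R : Type u) (_ : CommRing R) (u : Spec (CommRingCat.of R) ⟶ S), IsOpenImmersion u ∧ s ∈ Set.range u.base ∧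
      Nonempty (Grp.mk (Red.bc u G) ≅ Grp.mk (SL R)) := by
  classical
  haveI := hT.1; haveI := hG.2.1; haveI := hG.1
  obtain ⟨e⟩ := hspl
  let e' : Grp.mk T ≅ Grp.mk (Red.DS S (Fin 1 → ℤ)) :=
    e ≪≫ TorLift.dsCongr S (AddEquiv.funUnique (Fin 1) ℤ).symm
  obtain ⟨U, hsU, ⟨R⟩⟩ := exists_rootData_nhd hG i hT e' s
  obtain ⟨_, ⟨W, hW, rfl⟩, hsW, hWU⟩ := S.isBasis_affineOpens.exists_subset_of_mem_open hsU U.2
  let A : Type u := Γ(S, W)
  let w : Spec (CommRingCat.of A) ⟶ S := hW.fromSpec
  have hrange : Set.range w.base ⊆ Set.range U.ι.base := by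
    rw [hW.range_fromSpec, Scheme.Opens.range_ι]
    exact hWU
  let k : Spec (CommRingCat.of A) ⟶ U.toScheme := IsOpenImmersion.lift U.ι w hrange
  have hk : k ≫ U.ι = w := IsOpenImmersion.lift_fac _ _ _
  haveI := isMonHom_map U.ι i
  let R₁ := (R.bc k fun _ => trivial).flatten hk
  haveI := isMonHom_map w i
  have hs : s ∈ Set.range w.base := by rw [hW.range_fromSpec]; exact hsW
  -- the geometric point
  let L : Type u := AlgebraicClosure (S.residueField s)
  let θ : Spec (CommRingCat.of L) ⟶ Spec (CommRingCat.of A) := IsOpenImmersion.lift w (Red.geomPt s) (by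
    rintro _ ⟨x, rfl⟩
    have hx : (Red.geomPt s).base x = s := by
      simp only [Red.geomPt]
      exact Scheme.fromSpecResidueField_apply s _
    rw [hx]; exact hs)
  have hθ : θ ≫ w = Red.geomPt s := IsOpenImmersion.lift_fac _ _ _
  haveI : Nonempty ↥(Spec (CommRingCat.of A)) := ⟨θ.base (⊥ : PrimeSpectrum L)⟩
  let R₂ := (R₁.bc θ fun _ => trivial).flatten hθ
  haveI := isMonHom_map (Red.geomPt s) i
  have hcard : R₁.roots.card = 2 := by
    have h1 := R₂.dim L (𝟙 _) fun _ => trivial
    have h2 : topologicalKrullDim ↥(Red.bc (𝟙 (Spec (CommRingCat.of L))) (Red.geomFibre s G)).left =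
        topologicalKrullDim ↥(Red.geomFibre s G).left :=
      IsHomeomorph.topologicalKrullDim_eq _ (asIso (pullback.fst (Red.geomFibre s G).hom
        (𝟙 (Spec (CommRingCat.of L))))).hom.homeomorph.isHomeomorph
    rw [h2, hdim s] at h1
    have h3 : 1 + R₁.roots.card = 3 := by exact_mod_cast h1.symm
    omega
  let D := R₁.splitRed (fun _ => trivial) (isReductive_bc hG w) (Groth.L08.Borel.isMaximalTorus_bc hT w)
  let D₂ := R₂.splitRed (fun _ => trivial) (isReductive_bc hG (Red.geomPt s))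
    (Groth.L08.Borel.isMaximalTorus_bc hT (Red.geomPt s))
  have hcardD : Fintype.card D.idx = 2 := by
    show Fintype.card {a // a ∈ R₁.roots} = 2
    rw [Fintype.card_coe, hcard]
  obtain ⟨a⟩ : Nonempty D.idx := Fintype.card_pos_iff.1 (by omega)
  have hne : D.P.reflectionPerm a a ≠ a := fun h => by
    have h1 := root_neg' D.P a
    rw [h] at h1
    have h2 := congrArg (D.P.coroot a) h1
    rw [map_neg, Coroot.coroot_root_self] at h2
    omega
  have hidx : ∀ c : D.idx, c = a ∨ c = D.P.reflectionPerm a a := fun c => by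
    by_contra hc
    push_neg at hc
    have h3 : ({a, D.P.reflectionPerm a a, c} : Finset D.idx).card = 3 := by
      rw [Finset.card_insert_of_notMem (by simp [hne.symm, hc.1.symm]),
        Finset.card_insert_of_notMem (by simp [hc.2.symm]), Finset.card_singleton]
    have h4 := Finset.card_le_univ ({a, D.P.reflectionPerm a a, c} : Finset D.idx)
    omega
  have hinj : Function.Injective (D.P.coroot a) := by
    intro x y hxy
    change (R₁.lam a) x = (R₁.lam a) y at hxy
    have hv : ∀ v : Fin 1 → ℤ, v = v 0 • (fun _ => (1 : ℤ)) := fun v => funext fun i => by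
      rw [Fin.fin_one_eq_zero i]; simp
    have h2 : R₁.lam a a.1 = 2 := R₁.two a
    rw [hv a.1, map_zsmul, smul_eq_mul] at h2
    rw [hv x, hv y, map_zsmul, map_zsmul, smul_eq_mul, smul_eq_mul] at hxy
    have h0 : R₁.lam a (fun _ => (1 : ℤ)) ≠ 0 := fun h => by rw [h, mul_zero] at h2; omega
    rw [hv x, hv y, mul_right_cancel₀ h0 hxy]
  obtain ⟨p, hp, -, -, -, -, hiso, -⟩ := rank_one D a hidx hinj
  have h1 : (1 : ℤ) ∈ LinearMap.range (D.P.coroot a) := by
    by_contra h1
    have heven : ∀ m : D₂.M, (2 : ℤ) ∣ D₂.P.coroot a m := fun m => by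
      by_contra hd2
      obtain ⟨j, hj⟩ := Int.odd_iff.2 (Int.emod_two_ne_zero.1 fun h => hd2 (Int.dvd_of_emod_eq_zero h))
      refine h1 ⟨(show Fin 1 → ℤ from m) - j • a.1, ?_⟩
      show R₁.lam a ((show Fin 1 → ℤ from m) - j • a.1) = 1
      change R₁.lam a m = 2 * j + 1 at hj
      rw [map_sub, map_zsmul, R₁.two a, hj, smul_eq_mul]
      ring
    obtain ⟨Z, _, z, hz, hzi⟩ := hZ s
    exact not_centre_of_even D₂ a hidx hinj heven Z z hz hzi
  haveI := hiso h1
  exact ⟨A, inferInstance, w, inferInstance, hs, ⟨(Grp.mkIso' (asIso p)).symm⟩⟩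

end Groth.L14.SL2
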