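import Groth.Agent.L14.Splitting.CorootSub
import Groth.Agent.L14.RedLR.Over
import Groth.Agent.L08.Borel.IsoBase

/-!
# Splittings with proportional roots
-/

set_option autoImplicit false
set_option linter.unusedSectionVars false
set_option linter.style.haveILetI false
set_option linter.deprecated false
set_option backward.isDefEq.respectTransparency.types false
set_option maxHeartbeats 1000000

universe u

open CategoryTheory CategoryTheory.Limits MonoidalCategory CartesianMonoidalCategory MonObj AlgebraicGeometry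
open WithConv TensorProduct
open Groth.L25.Bridge (P)
open Groth.L25 Groth.L14.Splitting

noncomputable section

namespace Groth.L14.SL2

variable {k : Type u} [Field k]

local notation "SK" => Spec (CommRingCat.of k)

/-- **proportional roots give a splitting with two roots** -/
theorem exists_pair_splitRed {H S : Over SK} [GrpObj H] [GrpObj S] (hH : Red.IsReductive H)
    (hns : ¬ Red.IsSolvableGrp H) (i : S ⟶ H) (hT : Red.IsMaximalTorus i) {M : Type} [AddCommGroup M]
    (hM : Red.IsSplitTorusWith M S)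
    (hprop : ∀ α β : S ⟶ Red.Gm SK, LieWt.IsRoot i α → LieWt.IsRoot i β →
      ∃ m n : ℤ, m ≠ 0 ∧ n ≠ 0 ∧ α ^ m = β ^ n) :
    ∃ (D : Red.SplitRed H) (c₀ : D.idx), ∀ c : D.idx, c = c₀ ∨ c = D.P.reflectionPerm c₀ c₀ := by
  classical
  haveI := hT.1
  obtain ⟨C₀⟩ := Groth.L06.RootLines.exists_coords hH hT hM
  let φ : C₀.A →ₐc[k] AddMonoidAlgebra k (Fin C₀.r → ℤ) := C₀.φ
  haveI : IsIso (Groth.L06.RootLines.toDS k C₀.r) := inferInstance
  let eDS : S ≅ Red.DS SK (Fin C₀.r → ℤ) := C₀.e.symm ≪≫ asIso (Groth.L06.RootLines.toDS k C₀.r)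
  haveI : IsMonHom eDS.hom := inferInstanceAs (IsMonHom (C₀.e.inv ≫ Groth.L06.RootLines.toDS k C₀.r))
  haveI hei : IsMonHom eDS.inv := inferInstance
  let eG : Grp.mk H ≅ Grp.mk (P k C₀.A) := Grp.mkIso' C₀.eq
  have hφ : torHom φ = eDS.inv ≫ i ≫ C₀.eq.hom := by
    rw [← cancel_epi (Groth.L06.RootLines.toDS k C₀.r), toDS_torHom]
    show spB φ = Groth.L06.RootLines.toDS k C₀.r ≫
      (inv (Groth.L06.RootLines.toDS k C₀.r) ≫ C₀.e.hom) ≫ i ≫ C₀.eq.hom
    rw [Category.assoc, IsIso.hom_inv_id_assoc]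
    exact C₀.hφ
  have hGA := isReductive_congr eG hH
  obtain ⟨_, _⟩ := smooth_coords hGA.2.1
  have hTA : Red.IsMaximalTorus (torHom φ) := by
    rw [hφ]
    haveI : IsMonHom eDS.symm.hom := inferInstanceAs (IsMonHom eDS.inv)
    exact Groth.L08.Borel.isMaximalTorus_iso_comp (Groth.L24.TorusField.isMaximalTorus_comp_iso hT C₀.eq) eDS.symm
  obtain ⟨Φ, hR⟩ := exists_constRoots_local φ
  let q₀ : PrimeSpectrum k := (⊥ : PrimeSpectrum k).comap (algebraMap k k)
  have hfin : ∀ m, Module.finrank k (Groth.L06.RootLines.Wt C₀.φ m) = mult φ m q₀ := fun m => by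
    rw [← finrank_tanW φ m k, tanW_eq k φ m]
  have hroot : ∀ c ∈ Φ, LieWt.IsRoot i (C₀.ch c) := fun c hc => (C₀.isRoot_ch c).2 ⟨hR.ne_zero c hc, fun h => by
    refine mult_ne_zero_of_coord (hR.coord c hc).some q₀ ?_
    rw [← hfin]
    exact (congrArg (fun p : Submodule k (C₀.A →ₗ[k] k) => Module.finrank k p) h).trans (finrank_bot _ _)⟩
  obtain ⟨a, ha, hW⟩ := C₀.exists_weight hH hT fun hi => hns <| by
    haveI := hi
    haveI : IsMonHom (CategoryTheory.inv i) := inferInstanceAs (IsMonHom (asIso i).inv)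
    exact Groth.L08.Borel.isSolvableGrp_of_mono (CategoryTheory.inv i) (Groth.L06.RootLines.isSolvableGrp_split hM)
  have haΦ : a ∈ Φ := by
    by_contra h
    have h0 := hR.off a h ha q₀
    rw [← hfin] at h0
    haveI := (Groth.L06.RootLines.finrank_Tan (K := k) (A := C₀.A)).1
    haveI := Submodule.finiteDimensional_of_le (Groth.L06.RootLines.Wt_le C₀.φ a)
    exact hW (Submodule.finrank_eq_zero.1 h0)
  obtain ⟨U, hp', hdat⟩ := exists_datum φ hR hGA hTA (IsLocalRing.closedPoint k)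
  have hU : ∀ s : SK, s ∈ U := fun s => (IsLocalRing.specializes_closedPoint s).mem_open U.2 hp'
  obtain ⟨RZ, hroots, hRe⟩ := exists_rootData_of_datum φ hR hGA hTA hdat
  let R' := RZ.transport eG.symm (Iso.refl (Grp.mk (Red.DS SK (Fin C₀.r → ℤ))))
    (i' := torHom φ ≫ C₀.eq.inv) (Category.id_comp _)
  haveI : IsMonHom C₀.eq.symm.hom := inferInstanceAs (IsMonHom C₀.eq.inv)
  let D := R'.splitRed hU hH (Groth.L24.TorusField.isMaximalTorus_comp_iso hTA C₀.eq.symm)
  let c₀ : D.idx := ⟨a, hroots.symm ▸ haΦ⟩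
  refine ⟨D, c₀, fun c => ?_⟩
  haveI : Nonempty SK := ⟨(⊥ : PrimeSpectrum k)⟩
  haveI := Groth.L14.Luna.SemiRank.isReduced_splitRed D
  obtain ⟨m, n, hm, hn, hmn⟩ := hprop _ _ (hroot a haΦ) (hroot c.1 (hroots ▸ c.2))
  rw [← C₀.ch_zsmul, ← C₀.ch_zsmul] at hmn
  have hv := C₀.ch_injective hmn
  have hdep : ¬ LinearIndependent ℤ ![D.P.root c₀, D.P.root c] := fun hi => by
    rw [LinearIndependent.pair_iff] at hi
    refine hm (hi m (-n) ?_).1
    show m • a + (-n) • c.1 = (0 : Fin C₀.r → ℤ)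
    rw [hv, neg_smul, add_neg_cancel]
  rcases RootPairing.IsReduced.eq_or_eq_neg (P := D.P) c₀ c hdep with e | e
  · exact Or.inl (D.P.root.injective e).symm
  · refine Or.inr (D.P.root.injective ?_)
    rw [Groth.L24.RootD.root_neg, e, neg_neg]

end Groth.L14.SL2
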