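import Groth.Agent.L14.Splitting.AffPts
import Groth.Prelude.Def_Red
import Groth.Prelude.Def_GLin5
import Mathlib.RingTheory.Smooth.Basic
import Mathlib.RingTheory.Smooth.AdicCompletion

/-!
# The special linear group of rank one: points are matrices
-/

set_option autoImplicit false
set_option linter.unusedSectionVars false
set_option linter.style.haveILetI false
set_option backward.isDefEq.respectTransparency.types false
set_option maxHeartbeats 1000000

universe u

open CategoryTheory CategoryTheory.Limits MonoidalCategory CartesianMonoidalCategory MonObj AlgebraicGeometry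
open WithConv TensorProduct
open Groth.L25.Bridge (P)
open Groth.L14.Splitting

noncomputable section

namespace Groth.L14.SL2

variable (R : Type u) [CommRing R]

/-- the group -/
abbrev SL : Over (Spec (CommRingCat.of R)) := P R (CoordGrp.SLn 2 R)

variable {R}

theorem mk_Dinv : CoordGrp.SLn.mk 2 R (CoordGrp.GLn.Dinv : CoordGrp.GLn 2 R) = 1 := by
  have h := congrArg (CoordGrp.SLn.mk 2 R) (CoordGrp.GLn.det_mul_Dinv (n := 2) (k := R))
  rwa [map_mul, CoordGrp.SLn.det_eq_one, _root_.one_mul, map_one] at h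

theorem algHom_ext' {B : Type u} [CommRing B] [Algebra R B] {f g : CoordGrp.SLn 2 R →ₐ[R] B}
    (h : ∀ i j, f (CoordGrp.SLn.X i j) = g (CoordGrp.SLn.X i j)) : f = g :=
  CoordGrp.SLn.algHom_ext h (by rw [mk_Dinv, map_one, map_one])

theorem comul_slX (i j : Fin 2) : CoalgebraStruct.comul (R := R) (CoordGrp.SLn.X i j : CoordGrp.SLn 2 R) =
    ∑ l, (CoordGrp.SLn.X i l : CoordGrp.SLn 2 R) ⊗ₜ[R] CoordGrp.SLn.X l j := by
  refine (Bialgebra.Quotient.comul_mk (CoordGrp.GLn.slIdeal 2 R) (CoordGrp.GLn.X i j)).trans ?_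
  rw [CoordGrp.GLn.comul_X, map_sum]
  rfl

theorem counit_slX (i j : Fin 2) : CoalgebraStruct.counit (R := R) (CoordGrp.SLn.X i j : CoordGrp.SLn 2 R) =
    if i = j then 1 else 0 :=
  (CoalgHomClass.counit_comp_apply (CoordGrp.SLn.mkHom 2 R) (CoordGrp.GLn.X i j)).trans (CoordGrp.GLn.counit_X i j)

variable {X X' : Over (Spec (CommRingCat.of R))}

/-- the matrix of a point -/
def mat (x : X ⟶ SL R) : Matrix (Fin 2) (Fin 2) Γ(X.left, ⊤) :=
  fun i j => (val x).ofConv (CoordGrp.SLn.X i j)

/-- the point of a matrix -/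
def mk (M : Matrix (Fin 2) (Fin 2) Γ(X.left, ⊤)) (h : M.det = 1) : X ⟶ SL R :=
  ofFn (toConv (CoordGrp.SLn.pt 2 R M h))

theorem mat_mk (M : Matrix (Fin 2) (Fin 2) Γ(X.left, ⊤)) (h : M.det = 1) : mat (mk M h) = M := by
  ext i j
  show (val (ofFn _)).ofConv _ = _
  rw [val_ofFn]
  exact CoordGrp.SLn.pt_X M h i j

theorem mat_injective : Function.Injective (mat : (X ⟶ SL R) → _) := fun x y h =>
  val_injective (WithConv.ext (algHom_ext' fun i j => congrFun (congrFun h i) j))

theorem mat_comp (f : X' ⟶ X) (x : X ⟶ SL R) : mat (f ≫ x) = (mat x).map f.left.appTop := by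
  ext i j
  show (val (f ≫ x)).ofConv _ = _
  rw [val_comp]
  rfl

theorem mat_mul (x y : X ⟶ SL R) : mat (x * y) = mat x * mat y := by
  ext i j
  show (val (x * y)).ofConv _ = _
  rw [val_mul, Matrix.mul_apply, AlgHom.convMul_def]
  simp only [ofConv_toConv, AlgHom.comp_apply, Bialgebra.comulAlgHom_apply, comul_slX, map_sum,
    Algebra.TensorProduct.map_tmul]
  rfl

theorem mat_one : mat (1 : X ⟶ SL R) = 1 := by
  ext i j
  show (val (1 : X ⟶ SL R)).ofConv _ = _
  rw [← ofFn_one, val_ofFn, AlgHom.convOne_apply, counit_slX, Matrix.one_apply]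
  split <;> simp

theorem det_mat (x : X ⟶ SL R) : (mat x).det = 1 := by
  have h : mat x = (((val x).ofConv.comp (CoordGrp.SLn.mk 2 R)).mapMatrix (CoordGrp.GLn.genMat 2 R)) := rfl
  rw [h, ← AlgHom.map_det, ← CoordGrp.GLn.det_eq, AlgHom.comp_apply, CoordGrp.SLn.det_eq_one, map_one]

theorem mk_mat (x : X ⟶ SL R) : mk (mat x) (det_mat x) = x := mat_injective (mat_mk _ _)

theorem mat_inv (x : X ⟶ SL R) : mat x⁻¹ = (mat x).adjugate := by
  have h : mat x⁻¹ * mat x = 1 := by rw [← mat_mul, inv_mul_cancel, mat_one]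
  calc mat x⁻¹ = mat x⁻¹ * (mat x * (mat x).adjugate) := by
        rw [Matrix.mul_adjugate, det_mat, one_smul, _root_.mul_one]
    _ = (mat x).adjugate := by rw [← _root_.mul_assoc, h, _root_.one_mul]

instance finitePresentation : Algebra.FinitePresentation R (CoordGrp.SLn 2 R) := by
  haveI : Algebra.FinitePresentation R (CoordGrp.GLn 2 R) := by
    haveI : Algebra.FinitePresentation R (CoordGrp.GLb 2 R) :=
      inferInstanceAs (Algebra.FinitePresentation R (MvPolynomial (CoordGrp.GLPoly.Idx 2) R))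
    exact Algebra.FinitePresentation.quotient (R := R) (I := CoordGrp.GLb.relIdeal 2 R) (Submodule.fg_span_singleton _)
  exact Algebra.FinitePresentation.quotient (R := R) (I := CoordGrp.GLn.slIdeal 2 R) (Submodule.fg_span_singleton _)

instance formallySmooth : Algebra.FormallySmooth R (CoordGrp.SLn 2 R) := by
  refine Algebra.FormallySmooth.iff_comp_surjective.2 fun B _ _ I hI g => ?_
  have hpi : Function.Surjective (Ideal.Quotient.mkₐ R I) := Ideal.Quotient.mk_surjective
  choose l hl using hpi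
  let M : Matrix (Fin 2) (Fin 2) B := fun i j => l (g (CoordGrp.SLn.X i j))
  have hdet : Ideal.Quotient.mkₐ R I M.det = 1 := by
    rw [AlgHom.map_det]
    have : (Ideal.Quotient.mkₐ R I).mapMatrix M =
        (g.comp (CoordGrp.SLn.mk 2 R)).mapMatrix (CoordGrp.GLn.genMat 2 R) := by
      ext i j
      exact hl _
    rw [this, ← AlgHom.map_det, ← CoordGrp.GLn.det_eq, AlgHom.comp_apply, CoordGrp.SLn.det_eq_one, map_one]
  let e := M.det - 1
  have he : e ∈ I := Ideal.Quotient.eq_zero_iff_mem.1 (by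
    show Ideal.Quotient.mkₐ R I (M.det - 1) = 0
    rw [map_sub, hdet, map_one, sub_self])
  let v : Fin 2 → B := ![1 - e, 1]
  let M' : Matrix (Fin 2) (Fin 2) B := Matrix.diagonal v * M
  have hM' : M'.det = 1 := by
    have h2 : e * e = 0 := by
      have := Ideal.mul_mem_mul he he
      rwa [← pow_two, hI, Ideal.mem_bot] at this
    rw [Matrix.det_mul, Matrix.det_diagonal, Fin.prod_univ_two]
    show (1 - e) * 1 * M.det = 1
    have h3 : M.det = 1 + e := by simp [e]
    rw [h3, _root_.mul_one]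
    linear_combination -h2
  refine ⟨CoordGrp.SLn.pt 2 R M' hM', algHom_ext' fun i j => ?_⟩
  rw [AlgHom.comp_apply, CoordGrp.SLn.pt_X, show M' i j = v i * M i j from Matrix.diagonal_mul v M i j, map_mul]
  have hv : Ideal.Quotient.mkₐ R I (v i) = 1 := by
    fin_cases i
    · show Ideal.Quotient.mkₐ R I (1 - e) = 1
      rw [map_sub, map_one, show Ideal.Quotient.mkₐ R I e = 0 from Ideal.Quotient.eq_zero_iff_mem.2 he, sub_zero]
    · exact map_one _
  rw [hv, _root_.one_mul]
  exact hl _

instance smooth : Algebra.Smooth R (CoordGrp.SLn 2 R) := ⟨inferInstance, inferInstance⟩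

instance smooth_SL : Smooth (SL R).hom :=
  (HasRingHomProperty.Spec_iff (P := @Smooth)).2
    (RingHom.smooth_algebraMap.2 (inferInstanceAs (Algebra.Smooth R (CoordGrp.SLn 2 R))))

instance isAffineHom_SL : IsAffineHom (SL R).hom := by
  haveI : IsAffine (SL R).left := inferInstanceAs (IsAffine (Spec _))
  exact isAffineHom_of_isAffine _

end Groth.L14.SL2
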