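import Groth.Agent.L14.SL2.Derived
import Groth.Agent.L14.SL2.PairSplit
import Groth.Agent.L14.SL2.CentMain
import Groth.Agent.L14.Luna.CentRed
import Groth.Agent.L08.FlatHom
import Groth.Agent.L25.GenWords.Fibre

/-!
# The adjoint quotient in semisimple rank one
-/

set_option autoImplicit false
set_option linter.unusedSectionVars false
set_option linter.style.haveILetI false
set_option backward.isDefEq.respectTransparency.types false
set_option maxHeartbeats 1000000

universe u

open CategoryTheory CategoryTheory.Limits AlgebraicGeometry MonoidalCategory CartesianMonoidalCategory MonObj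
open Groth.L14.RankOne Groth.L25 Groth.L14.Chart Groth.L14.Chev.Cell

noncomputable section

namespace Groth.L14.SL2

/-- the centre of a split group with two roots -/
theorem pair_central_iff {R : Type u} [CommRing R] [Nonempty ↥(Spec (CommRingCat.of R))]
    {G : Over (Spec (CommRingCat.of R))} [GrpObj G] (D : Red.SplitRed G) (a : D.idx)
    (hidx : ∀ c : D.idx, c = a ∨ c = D.P.reflectionPerm a a) {X : Over (Spec (CommRingCat.of R))} (g : X ⟶ G) :
    (∀ (X' : Over (Spec (CommRingCat.of R))) (x : X' ⟶ X) (h : X' ⟶ G), (x ≫ g) * h = h * (x ≫ g)) ↔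
      ∃ t : X ⟶ D.T, t ≫ D.i = g ∧ t ≫ D.split.hom.hom.hom ≫ Red.chi _ (D.P.root a) = 1 := by
  haveI := isMonHom_i (D := D)
  haveI : Mono D.i := D.maximalTorus.2.1
  haveI : ∀ c, IsMonHom (D.u c) := fun c => (D.rootHom c).1
  haveI : ∀ c, Mono (D.u c) := fun c => by
    haveI := (D.rootHom c).2.1
    exact Over.mono_of_mono_left _
  let α : D.T ⟶ Red.Gm (Spec (CommRingCat.of R)) := D.split.hom.hom.hom ≫ Red.chi _ (D.P.root a)
  haveI : IsMonHom (Red.chi (Spec (CommRingCat.of R)) (D.P.root a)) := TorusTorsion.isMonHom_DSmap _ _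
  haveI : IsMonHom α := inferInstanceAs (IsMonHom (D.split.hom.hom.hom ≫ Red.chi _ (D.P.root a)))
  obtain ⟨-, -, hcell⟩ := isOpenImmersion_pair D a hidx
  refine Groth.Agent.S8447.result _ G D.T D.i D.reductive D.maximalTorus α (Coroot.root_ne_one_geom a) (D.u a)
    (D.u (D.P.reflectionPerm a a)) (D.rootHom a).2.2 (fun X t y => ?_) hcell X g
  obtain ⟨y', hy, hy'⟩ := (D.rootHom (D.P.reflectionPerm a a)).2.2 X t y
  refine ⟨y', hy, ?_⟩
  rw [hy']
  linear_combination Red.gaFn y * Coroot.gmFn_root_neg (D := D) t a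

variable {k : Type u} [Field k]

local notation "SK" => Spec (CommRingCat.of k)

theorem isReduced_of_flat_surjective {X Y : Scheme.{u}} (q : X ⟶ Y) [Flat q] [Surjective q] [IsReduced X] :
    IsReduced Y := by
  haveI : ∀ y : Y, _root_.IsReduced (Y.presheaf.stalk y) := fun y => by
    obtain ⟨x, rfl⟩ := q.surjective y
    let φ : (Y.presheaf.stalk (q x)) →+* (X.presheaf.stalk x) := (q.stalkMap x).hom
    algebraize [φ]
    haveI : Module.Flat (Y.presheaf.stalk (q x)) (X.presheaf.stalk x) := Flat.stalkMap q x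
    haveI : IsLocalHom (algebraMap (Y.presheaf.stalk (q x)) (X.presheaf.stalk x)) :=
      inferInstanceAs (IsLocalHom (q.stalkMap x).hom)
    haveI : Module.FaithfullyFlat (Y.presheaf.stalk (q x)) (X.presheaf.stalk x) :=
      Module.FaithfullyFlat.of_flat_of_isLocalHom
    exact isReduced_of_injective φ (FaithfulSMul.algebraMap_injective (Y.presheaf.stalk (q x)) (X.presheaf.stalk x))
  exact isReduced_of_isReduced_stalk Y

theorem isKernel_of_points {S : Scheme.{u}} {N G Q : Over S} [GrpObj G] [GrpObj Q] (i : N ⟶ G) [Mono i] (q : G ⟶ Q)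
    (hiq : i ≫ q = 1) (h : ∀ (X : Over S) (x : X ⟶ G), x ≫ q = 1 → ∃ w, w ≫ i = x) : AlgGrp.IsKernel i q := by
  have hw : i ≫ q = toUnit _ ≫ η[Q] := hiq.trans Hom.one_def
  have hcond : ∀ (X : Over S) (f : X ⟶ G) (t : X ⟶ 𝟙_ _), f ≫ q = t ≫ η[Q] → ∃ w, w ≫ i = f := fun X f t h' =>
    h X f (by rw [h', toUnit_unique t (toUnit X)]; exact Hom.one_def.symm)
  refine IsPullback.of_isLimit' ⟨hw⟩ (Limits.PullbackCone.IsLimit.mk _
    (fun s => (hcond _ s.fst s.snd s.condition).choose) (fun s => (hcond _ s.fst s.snd s.condition).choose_spec)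
    (fun s => toUnit_unique _ _) fun s l hl _ => ?_)
  exact (cancel_mono i).1 (hl.trans (hcond _ s.fst s.snd s.condition).choose_spec.symm)

/-- **the quotient by the largest central torus** -/
theorem quotient_main [IsAlgClosed k] {H S : Over SK} [GrpObj H] [GrpObj S] (hH : Red.IsReductive H)
    (hns : ¬ Red.IsSolvableGrp H) (i : S ⟶ H) (hS : AGF.IsMaxTorus i)
    (hprop : ∀ α β : S ⟶ Red.Gm SK, LieWt.IsRoot i α → LieWt.IsRoot i β →
      ∃ m n : ℤ, m ≠ 0 ∧ n ≠ 0 ∧ α ^ m = β ^ n)
    {R : Over SK} [GrpObj R] (r : R ⟶ H) [IsMonHom r] [Mono r] (hR : Red.IsTorus R)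
    (hRc : ∀ (X : Over SK) (x : X ⟶ R) (X' : Over SK) (y : X' ⟶ X) (h : X' ⟶ H),
        (y ≫ x ≫ r) * h = h * (y ≫ x ≫ r))
    (hRmax : ∀ (R' : Over SK) [GrpObj R'] (r' : R' ⟶ H) [IsMonHom r'] [Mono r'], Red.IsTorus R' →
      (∀ (X : Over SK) (x : X ⟶ R') (X' : Over SK) (y : X' ⟶ X) (h : X' ⟶ H),
        (y ≫ x ≫ r') * h = h * (y ≫ x ≫ r')) → ∃ f : R' ⟶ R, f ≫ r = r')
    {Q : Over SK} [GrpObj Q] (q : H ⟶ Q) [IsMonHom q] (hq : RedSub.IsQuotient r q) :
    (Nonempty (Grp.mk Q ≅ Grp.mk (SL k))) ∨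
      ∃ (p : SL k ⟶ Q) (_ : IsMonHom p) (C : Over SK) (_ : GrpObj C) (c : C ⟶ SL k),
        Red.IsCentre c ∧ RedSub.IsQuotient c p := by
  classical
  haveI : Nonempty ↥SK := ⟨(⊥ : PrimeSpectrum k)⟩
  have hT := Groth.L08.Borel.isMaximalTorus_of_isMaxTorus hS
  obtain ⟨M, _, -, hM⟩ := Groth.L14.RedLR.exists_split_fg S hS.2.2.1
  obtain ⟨D, a, hidx⟩ := exists_pair_splitRed hH hns i hT hM hprop
  haveI := isMonHom_i (D := D)
  -- the derived group
  let N := corN D a
  have hN := corN_spec D a hidx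
  obtain ⟨F, hF, hFi, hKer⟩ := Groth.Agent.S5572.result D N hN
  haveI := hF
  let D' : Over SK := pullback F η[Red.DS SK ↥N]
  have hpb : IsPullback (pullback.fst F η[Red.DS SK ↥N]) (pullback.snd F η[Red.DS SK ↥N]) F η[Red.DS SK ↥N] :=
    IsPullback.of_hasPullback _ _
  haveI : Mono η[Red.DS SK ↥N] := ⟨fun u v _ => toUnit_unique u v⟩
  let d : D' ⟶ H := pullback.fst F η[Red.DS SK ↥N]
  haveI : Mono d := hpb.mono_fst_of_mono
  haveI : IsMonHom η[Red.DS SK ↥N] := inferInstance
  obtain ⟨_, hd⟩ := Groth.L14.Luna.exists_grpObj_pullback hpb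
  haveI := hd
  have hkd : AlgGrp.IsKernel d F := by
    have e : toUnit D' = pullback.snd F η[Red.DS SK ↥N] := toUnit_unique _ _
    show IsPullback d (toUnit D') F η[Red.DS SK ↥N]
    rw [e]
    exact hpb
  obtain ⟨-, -, hkill⟩ := hKer D' d hkd
  have hker : ∃ (C : Over SK) (_ : GrpObj C) (f₀ : H ⟶ C), IsMonHom f₀ ∧
      (∀ (X : Over SK) (u v : X ⟶ C), u * v = v * u) ∧ AlgGrp.IsKernel d f₀ :=
    ⟨Red.DS SK ↥N, inferInstance, F, hF, fun X u v => DerGrp.DS_comm u v, hkd⟩
  have hdF : d ≫ F = 1 := hkd.w.trans Hom.one_def.symm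
  obtain ⟨p, hp, hpT, _, hps, hpl, hiso, hkp⟩ := exists_cover_derived D a hidx d hker hkill
  obtain ⟨Q₀, c, r', l, hc, hcm⟩ := exists_mul_cover D a hidx d hker hkill
  haveI := hp
  haveI := hps
  haveI := hc
  let pd : SL k ⟶ H := p ≫ d
  haveI : IsMonHom pd := inferInstanceAs (IsMonHom (p ≫ d))
  let pdq : SL k ⟶ Q := pd ≫ q
  haveI : IsMonHom pdq := inferInstanceAs (IsMonHom (pd ≫ q))
  obtain ⟨_, _, _, hqpb⟩ := hq
  have hmul : ∀ {X : Over SK} (x : X ⟶ H ⊗ R), x ≫ (H ◁ r) ≫ μ[H] = (x ≫ fst H R) * (x ≫ snd H R ≫ r) := fun x => by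
    rw [← Category.assoc, Hom.mul_def]
    congr 1
    apply CartesianMonoidalCategory.hom_ext <;> simp
  have hrq : r ≫ q = 1 := by
    have h := congrArg (lift (1 : R ⟶ H) (𝟙 R) ≫ ·) hqpb.w
    change lift (1 : R ⟶ H) (𝟙 R) ≫ fst H R ≫ q = lift (1 : R ⟶ H) (𝟙 R) ≫ ((H ◁ r) ≫ μ[H]) ≫ q at h
    rw [← Category.assoc, lift_fst, ← Category.assoc, hmul, lift_fst, lift_snd_assoc, Category.id_comp,
      _root_.one_mul, MonObj.one_comp] at h
    exact h.symm
  have hkq : ∀ {X : Over SK} (x : X ⟶ H), x ≫ q = 1 → ∃ y : X ⟶ R, y ≫ r = x := fun x hx => by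
    obtain ⟨w, hw₁, hw₂⟩ := hqpb.exists_lift 1 x (by rw [MonObj.one_comp, hx])
    rw [hmul, hw₁, _root_.one_mul] at hw₂
    exact ⟨w ≫ snd H R, by rw [Category.assoc, hw₂]⟩
  -- the central torus in the torus
  obtain ⟨tR, htR, htα⟩ := (pair_central_iff D a hidx r).1 fun X' x h => by
    simpa only [Category.id_comp] using hRc R (𝟙 R) X' x h
  haveI : Mono D.i := D.maximalTorus.2.1
  haveI : IsMonHom tR := DerGrp.isMonHom_of_comp D.i tR r htR
  -- the torus killed by the root is central
  haveI : Mono (rho D a ≫ D.i) := mono_comp _ _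
  obtain ⟨f, hf⟩ := hRmax _ (rho D a ≫ D.i) (isTorus_rho D a) fun X x X' y h => by
    have h1 := (pair_central_iff D a hidx (rho D a ≫ D.i)).2 ⟨rho D a, rfl, rho_root D a⟩ X' (y ≫ x) h
    simpa only [Category.assoc] using h1
  -- surjectivity
  let P₀ : Over SK := pullback l p
  let u₀ : P₀ ⟶ Q₀ := pullback.fst l p
  let v₀ : P₀ ⟶ SL k := pullback.snd l p
  haveI hu₀ : Surjective u₀.left :=
    MorphismProperty.of_isPullback (P := @Surjective) ((IsPullback.of_hasPullback l p).map (Over.forget _)).flip hps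
  let m : R ⊗ SL k ⟶ H := (fst R (SL k) ≫ r) * (snd R (SL k) ≫ pd)
  have hfac : lift (u₀ ≫ r' ≫ f) v₀ ≫ m = u₀ ≫ c := by
    rw [MonObj.comp_mul, lift_fst_assoc, lift_snd_assoc, hcm, MonObj.comp_mul, ← hf,
      ← Category.assoc v₀, ← pullback.condition]
    simp only [u₀, Category.assoc]
  haveI : Surjective m.left := by
    haveI : Surjective ((lift (u₀ ≫ r' ≫ f) v₀).left ≫ m.left) := by
      rw [← Over.comp_left, hfac, Over.comp_left]
      infer_instance
    exact Surjective.of_comp (lift (u₀ ≫ r' ≫ f) v₀).left _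
  have hmq : m ≫ q = snd R (SL k) ≫ pdq := by
    rw [MonObj.mul_comp, Category.assoc, hrq, MonObj.comp_one, _root_.one_mul, Category.assoc]
  haveI hsurj : Surjective pdq.left := by
    haveI : Surjective ((snd R (SL k)).left ≫ pdq.left) := by
      rw [← Over.comp_left, ← hmq, Over.comp_left]; infer_instance
    exact Surjective.of_comp (snd R (SL k)).left _
  -- flatness and presentation
  haveI : Smooth H.hom := hH.2.1
  haveI : IsReduced H.left := Groth.L25.GenWords.isReduced_of_smooth_field H.hom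
  haveI : IsReduced Q.left := isReduced_of_flat_surjective q.left
  haveI hflat : Flat pdq.left := Groth.L08.FlatHom.flat_of_surjective _ _ pdq
  haveI : Smooth (SL k).hom := smooth_SL
  haveI : LocallyOfFiniteType H.hom := inferInstance
  haveI : LocallyOfFinitePresentation (pd.left ≫ H.hom) := by rw [Over.w]; infer_instance
  haveI : LocallyOfFinitePresentation pd.left := Groth.L20.locallyOfFinitePresentation_of_comp pd.left H.hom
  haveI : LocallyOfFinitePresentation pdq.left := by
    rw [Over.comp_left]; infer_instance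
  -- the kernel lies in the centre
  have hkey : ∀ {X : Over SK} (x : X ⟶ SL k), x ≫ pdq = 1 →
      ∃ w, w ≫ cen ≫ tor k = x := by
    intro X x hx
    obtain ⟨y, hy⟩ := hkq (x ≫ pd) (by rw [Category.assoc]; exact hx)
    by_cases h1 : (1 : ℤ) ∈ LinearMap.range (D.P.coroot a)
    · haveI := hiso h1
      haveI : Mono pd := mono_comp _ _
      refine (isCentre_cen.2.2 X x).2 fun X' z h => ?_
      rw [← cancel_mono pd, MonObj.mul_comp, MonObj.mul_comp]
      simp only [Category.comp_id, Category.assoc]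
      rw [← hy]
      exact hRc X y X' z (h ≫ pd)
    · haveI : Mono (cen (R := k) ≫ tor k) := (isCentre_cen (R := k)).2.1
      have hk := hkp h1
      obtain ⟨w, hw, -⟩ := hk.exists_lift x (toUnit X) (by
        rw [← cancel_mono d, Category.assoc]
        show x ≫ pd = (toUnit X ≫ η[D']) ≫ d
        rw [← Hom.one_def, MonObj.one_comp]
        let t := y ≫ tR
        have ht : t ≫ D.i = x ≫ pd := by rw [Category.assoc, htR, hy]
        let t' : X ⟶ Red.DS SK D.M := t ≫ D.split.hom.hom.hom
        have hta : t' ≫ Red.chi SK (D.P.root a) = 1 := by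
          show (t ≫ _) ≫ _ = _
          rw [Category.assoc, Category.assoc, htα, MonObj.comp_one]
        have htN : t' ≫ Red.DSmap SK N.subtype = 1 := by
          show (t ≫ _) ≫ _ = _
          rw [Category.assoc, ← hFi, ← Category.assoc, ht, Category.assoc, Category.assoc p, hdF, MonObj.comp_one,
            MonObj.comp_one]
        have ht1 : t' = 1 := by
          refine DSPts.char_injective (MonoidHom.ext fun mu' => ?_)
          obtain ⟨mu, rfl⟩ := Multiplicative.ofAdd.surjective mu'
          rw [DSPts.char_one]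
          have hev : (2 : ℤ) ∣ D.P.coroot a mu := by
            by_contra hd2
            obtain ⟨j, hj⟩ := Int.odd_iff.2 (Int.emod_two_ne_zero.1 fun h => hd2 (Int.dvd_of_emod_eq_zero h))
            refine h1 ⟨mu - j • D.P.root a, ?_⟩
            rw [map_sub, map_zsmul, Coroot.coroot_root_self, hj, smul_eq_mul]
            ring
          obtain ⟨j, hj⟩ := hev
          have hmem : mu - j • D.P.root a ∈ corN D a := by
            show D.P.coroot a _ = 0
            rw [map_sub, map_zsmul, Coroot.coroot_root_self, hj, smul_eq_mul]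
            ring
          let U := MonoidHom.toHomUnits (DSPts.char t')
          have e1 : U (Multiplicative.ofAdd (D.P.root a)) = 1 := Units.ext (by
            have h := congrArg (fun g => DSPts.char g (Multiplicative.ofAdd (1 : ℤ))) hta
            simp only [Red.chi, SplitSub.char_DSmap, DSPts.char_one, MonoidHom.one_apply] at h
            refine Eq.trans ?_ h
            show DSPts.char t' (Multiplicative.ofAdd (D.P.root a)) =
              DSPts.char t' (Multiplicative.ofAdd ((zmultiplesHom D.M (D.P.root a)) 1))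
            rw [zmultiplesHom_apply, one_zsmul])
          have e2 : U (Multiplicative.ofAdd (mu - j • D.P.root a)) = 1 := Units.ext (by
            have h := congrArg (fun g => DSPts.char g (Multiplicative.ofAdd (⟨_, hmem⟩ : ↥(corN D a)))) htN
            simp only [SplitSub.char_DSmap, DSPts.char_one, MonoidHom.one_apply] at h
            exact h)
          have e3 : U (Multiplicative.ofAdd mu) = 1 := by
            rw [← sub_add_cancel mu (j • D.P.root a), ofAdd_add, map_mul, e2, ofAdd_zsmul, map_zpow, e1, one_zpow,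
              _root_.one_mul]
          exact congrArg Units.val e3
        have ht0 : t = 1 := by
          haveI : IsIso D.split.hom.hom.hom := ⟨D.split.inv.hom.hom, split_hom_inv, split_inv_hom⟩
          rw [← cancel_mono D.split.hom.hom.hom, MonObj.one_comp]
          exact ht1
        rw [← ht, ht0, MonObj.one_comp])
      exact ⟨w, hw⟩
  haveI hcm' : Mono (cen (R := k) ≫ tor k) := (isCentre_cen (R := k)).2.1
  by_cases hodd : ∃ mu ∈ (pr D a).ker, ¬ (2 : ℤ) ∣ D.P.coroot a mu
  · left
    obtain ⟨mu, hmu, hmuo⟩ := hodd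
    have hβ : tR ≫ D.split.hom.hom.hom ≫ Red.chi SK mu = 1 := by
      haveI : IsMonHom (Red.chi SK mu) := TorusTorsion.isMonHom_DSmap SK _
      refine Groth.L14.Splitting.eq_one_of_zpow hR (tR ≫ D.split.hom.hom.hom ≫ Red.chi SK mu) (l := 2) two_ne_zero ?_
      have e : Red.chi SK mu ≫ Red.chi SK (2 : ℤ) = Red.chi SK (D.P.root a) ≫ Red.chi SK (D.P.coroot a mu) := by
        simp only [Red.chi, TorusTorsion.DSmap_comp]
        congr 1
        refine AddMonoidHom.ext fun n => ?_
        show (zmultiplesHom D.M mu) ((zmultiplesHom ℤ (2 : ℤ)) n) =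
          (zmultiplesHom D.M (D.P.root a)) ((zmultiplesHom ℤ (D.P.coroot a mu)) n)
        simp only [zmultiplesHom_apply, smul_eq_mul, mul_smul]
        have h2 : (2 : ℤ) • mu - D.P.coroot a mu • D.P.root a = 0 := hmu
        rw [sub_eq_zero.1 h2]
      simp only [Category.assoc]
      haveI : IsMonHom (Red.chi SK (D.P.coroot a mu)) := TorusTorsion.isMonHom_DSmap SK _
      rw [e, reassoc_of% htα, MonObj.one_comp]
    haveI : Mono pdq := ⟨fun {X} u v huv => by
      have hx : (u⁻¹ * v) ≫ pdq = 1 := by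
        rw [MonObj.mul_comp, GrpObj.inv_comp, huv, inv_mul_cancel]
      obtain ⟨w, hw⟩ := hkey _ hx
      obtain ⟨y, hy⟩ := hkq ((u⁻¹ * v) ≫ pd) (by rw [Category.assoc]; exact hx)
      let z : X ⟶ Red.Gm SK := w ≫ cen
      have hz : z ≫ Coroot.coav D a = y ≫ tR := by
        rw [← cancel_mono D.i, Category.assoc y, htR, hy, ← hw]
        simp only [z, Category.assoc, pd]
        rw [hpT]
        simp only [Coroot.coav, Category.assoc]
      have hz2 : DSPts.char z (Multiplicative.ofAdd (2 : ℤ)) = 1 := by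
        have h := congrArg (fun g => Red.gmFn (w ≫ g)) (cen_rt (R := k))
        simp only [MonObj.comp_one, GmPts.gmFn_one] at h
        rw [← Category.assoc, gmFn_rt, gmFn_eq_char, ← map_mul, ← ofAdd_add] at h
        exact h
      have hzmu : DSPts.char z (Multiplicative.ofAdd (D.P.coroot a mu)) = 1 := by
        have h := congrArg (fun g => g ≫ D.split.hom.hom.hom ≫ Red.chi SK mu) hz
        simp only [Category.assoc, hβ, MonObj.comp_one] at h
        have h3 : z ≫ Coroot.coav D a ≫ D.split.hom.hom.hom ≫ Red.chi SK mu = z ≫ Red.chi SK (D.P.coroot a mu) := by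
          simp only [Coroot.coav, Category.assoc]
          rw [← Category.assoc D.split.inv.hom.hom, split_inv_hom, Category.id_comp, Red.chi, Red.chi,
            TorusTorsion.DSmap_comp]
          congr 2
          refine AddMonoidHom.ext fun n => ?_
          show D.P.coroot a ((zmultiplesHom D.M mu) n) = (zmultiplesHom ℤ (D.P.coroot a mu)) n
          rw [zmultiplesHom_apply, zmultiplesHom_apply, map_zsmul]
        simp only [Coroot.coav, Category.assoc] at h3
        rw [h3] at h
        have h4 := congrArg (fun g => DSPts.char g (Multiplicative.ofAdd (1 : ℤ))) h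
        simp only [Red.chi, SplitSub.char_DSmap, DSPts.char_one, MonoidHom.one_apply] at h4
        refine Eq.trans ?_ h4
        show DSPts.char z (Multiplicative.ofAdd (D.P.coroot a mu)) =
          DSPts.char z (Multiplicative.ofAdd ((zmultiplesHom ℤ (D.P.coroot a mu)) 1))
        rw [zmultiplesHom_apply, one_zsmul]
      have hz1 : z = 1 := by
        refine GmPts.gmFn_injective ?_
        show Red.gmFn _ = Red.gmFn _
        rw [GmPts.gmFn_one, gmFn_eq_char]
        obtain ⟨j, hj⟩ := Int.odd_iff.2 (Int.emod_two_ne_zero.1 fun h => hmuo (Int.dvd_of_emod_eq_zero h))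
        let U := MonoidHom.toHomUnits (DSPts.char z)
        have e1 : U (Multiplicative.ofAdd (2 : ℤ)) = 1 := Units.ext hz2
        have e2 : U (Multiplicative.ofAdd (D.P.coroot a mu)) = 1 := Units.ext hzmu
        rw [hj, ofAdd_add, map_mul, show (2 : ℤ) * j = j • (2 : ℤ) by rw [smul_eq_mul, _root_.mul_comm], ofAdd_zsmul,
          map_zpow, e1, one_zpow, _root_.one_mul] at e2
        exact congrArg Units.val e2
      have h5 : u⁻¹ * v = 1 := by
        rw [← hw, ← Category.assoc]
        show z ≫ tor k = 1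
        rw [hz1, MonObj.one_comp]
      exact eq_of_inv_mul_eq_one h5⟩
    haveI : Mono pdq.left := inferInstanceAs (Mono ((Over.forget _).map pdq))
    haveI := IsOpenImmersion.of_flat_of_mono pdq.left
    haveI : IsIso pdq.left := by
      haveI : Epi pdq.left.base := (TopCat.epi_iff_surjective _).2 pdq.left.surjective
      exact IsOpenImmersion.isIso pdq.left
    haveI : IsIso pdq := by
      haveI : IsIso ((Over.forget _).map pdq) := ‹IsIso pdq.left›
      exact isIso_of_reflects_iso pdq (Over.forget _)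
    exact ⟨(Grp.mkIso' (asIso pdq)).symm⟩
  · refine Or.inr ⟨pdq, inferInstance, _, inferInstance, cen ≫ tor k, isCentre_cen, isQuotient_of_kernel _ pdq ?_⟩
    refine isKernel_of_points _ _ ?_ fun X x hx => hkey x hx
    -- the centre lands in the torus
    let t₀ : Red.DS SK (ℤ ⧸ AddSubgroup.zmultiples (2 : ℤ)) ⟶ Red.DS SK D.M :=
      cen ≫ Red.DSmap SK (D.P.coroot a).toAddMonoidHom
    obtain ⟨h0, hh0⟩ := DerGrp.exists_fac_quot (pr D a).ker t₀ (by
      simp only [t₀, cen, Category.assoc, TorusTorsion.DSmap_comp]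
      rw [← Groth.L08.Borel.DSmap_zero']
      congr 1
      refine AddMonoidHom.ext fun n => ?_
      show QuotientAddGroup.mk' (AddSubgroup.zmultiples (2 : ℤ)) (D.P.coroot a (n : D.M)) = 0
      exact (QuotientAddGroup.eq_zero_iff _).2 (Int.mem_zmultiples_iff.2 (by
        by_contra h
        exact hodd ⟨n, n.2, h⟩)))
    let e := QuotientAddGroup.quotientKerEquivRange (pr D a)
    let h : Red.DS SK (ℤ ⧸ AddSubgroup.zmultiples (2 : ℤ)) ⟶ Red.DS SK ↥(pr D a).range :=
      h0 ≫ Red.DSmap SK e.symm.toAddMonoidHom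
    have hh : h ≫ rho D a = cen ≫ Coroot.coav D a := by
      rw [rho, Coroot.coav]
      simp only [h, Category.assoc]
      rw [← Category.assoc (Red.DSmap SK e.symm.toAddMonoidHom), TorusTorsion.DSmap_comp,
        show e.symm.toAddMonoidHom.comp (pr D a).rangeRestrict = QuotientAddGroup.mk' (pr D a).ker from
          AddMonoidHom.ext fun n => e.symm_apply_eq.2 rfl]
      rw [← Category.assoc, hh0]
      simp only [t₀, Category.assoc]
    show (cen ≫ tor k) ≫ (p ≫ d) ≫ q = 1
    calc (cen ≫ tor k) ≫ (p ≫ d) ≫ q = ((cen ≫ Coroot.coav D a) ≫ D.i) ≫ q := by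
          simp only [Category.assoc]
          rw [reassoc_of% hpT]
      _ = ((h ≫ f) ≫ r) ≫ q := by rw [← hh, Category.assoc h, Category.assoc h f, hf]
      _ = 1 := by rw [Category.assoc, hrq, MonObj.comp_one]

end Groth.L14.SL2
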