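import Groth.Agent.L14.SL2.System
import Groth.Agent.L14.DerGrp.Field
import Groth.Agent.L14.Coroot.Coav
import Groth.Agent.L14.RankOne.DualPair
import Groth.Agent.S8447
import Groth.Agent.S8453
import Groth.Agent.S8454
import Groth.Agent.S8455
import Groth.Agent.L20.FibreScheme

/-!
# Split groups of rank one are `SL₂` or `SL₂` modulo its centre
-/

set_option autoImplicit false
universe u

open CategoryTheory CategoryTheory.Limits AlgebraicGeometry MonoidalCategory CartesianMonoidalCategory MonObj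
open Groth.L14.RankOne Groth.L25 Groth.L14.Chart Groth.L14.Chev.Cell

set_option backward.isDefEq.respectTransparency.types false
set_option linter.style.haveILetI false
set_option linter.unusedSectionVars false
set_option maxHeartbeats 1000000

noncomputable section

namespace Groth.L14.SL2

variable {R : Type u} [CommRing R]

local notation "PP" => Spec (CommRingCat.of R)

/-- the kernel of the root of the special linear group -/
def cen : Red.DS (Spec (CommRingCat.of R)) (ℤ ⧸ AddSubgroup.zmultiples (2 : ℤ)) ⟶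
    Red.Gm (Spec (CommRingCat.of R)) :=
  Red.DSmap (Spec (CommRingCat.of R)) (QuotientAddGroup.mk' (AddSubgroup.zmultiples (2 : ℤ)))

instance isMonHom_cen : IsMonHom (cen (R := R)) := TorusTorsion.isMonHom_DSmap _ _

instance mono_cen : Mono (cen (R := R)) :=
  DerGrp.mono_DSmap_surj _ (QuotientAddGroup.mk'_surjective _)

theorem cen_rt : cen (R := R) ≫ rt R = 1 := by
  refine GmPts.gmFn_injective ?_
  show Red.gmFn _ = Red.gmFn _
  rw [gmFn_rt, GmPts.gmFn_one, gmFn_eq_char, ← map_mul, ← ofAdd_add, cen,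
    ← Category.id_comp (Red.DSmap _ _), SplitSub.char_DSmap]
  show DSPts.char (𝟙 _) (Multiplicative.ofAdd (QuotientAddGroup.mk' _ ((1 : ℤ) + 1))) = 1
  rw [show QuotientAddGroup.mk' (AddSubgroup.zmultiples (2 : ℤ)) ((1 : ℤ) + 1) = 0 from
    (QuotientAddGroup.eq_zero_iff _).2 (AddSubgroup.mem_zmultiples 2), ofAdd_zero, map_one]

theorem exists_cen_fac {X : Over (Spec (CommRingCat.of R))} (t : X ⟶ Red.Gm (Spec (CommRingCat.of R)))
    (ht : t ≫ rt R = 1) : ∃ h, h ≫ cen (R := R) = t := by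
  refine DerGrp.exists_fac_quot (AddSubgroup.zmultiples (2 : ℤ)) t (DSPts.char_injective (MonoidHom.ext fun n => ?_))
  obtain ⟨⟨n, hn⟩, rfl⟩ := Multiplicative.ofAdd.surjective n
  obtain ⟨k, rfl⟩ := AddSubgroup.mem_zmultiples_iff.1 hn
  have h2 : DSPts.char t (Multiplicative.ofAdd (2 : ℤ)) = 1 := by
    have h := congrArg Red.gmFn ht
    rw [gmFn_rt, GmPts.gmFn_one, gmFn_eq_char, ← map_mul] at h
    exact h
  have h3 : MonoidHom.toHomUnits (DSPts.char t) (Multiplicative.ofAdd (2 : ℤ)) = 1 := Units.ext h2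
  have h4 : MonoidHom.toHomUnits (DSPts.char t) (Multiplicative.ofAdd (k • (2 : ℤ))) = 1 := by
    rw [ofAdd_zsmul, map_zpow, h3, one_zpow]
  rw [SplitSub.char_DSmap, DSPts.char_one]
  exact congrArg Units.val h4

theorem isKernel_cen : AlgGrp.IsKernel (cen (R := R)) (rt R) := by
  have hw : cen (R := R) ≫ rt R = toUnit _ ≫ η[Red.Gm (Spec (CommRingCat.of R))] := cen_rt.trans Hom.one_def
  have hcond : ∀ (X : Over (Spec (CommRingCat.of R))) (f : X ⟶ Red.Gm (Spec (CommRingCat.of R))) (t : X ⟶ 𝟙_ _),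
      f ≫ rt R = t ≫ η[Red.Gm (Spec (CommRingCat.of R))] → ∃ h, h ≫ cen (R := R) = f := fun X f t h =>
    exists_cen_fac f (by rw [h, toUnit_unique t (toUnit X)]; exact Hom.one_def.symm)
  refine IsPullback.of_isLimit' ⟨hw⟩ (Limits.PullbackCone.IsLimit.mk _
    (fun s => (hcond _ s.fst s.snd s.condition).choose) (fun s => (hcond _ s.fst s.snd s.condition).choose_spec)
    (fun s => toUnit_unique _ _) fun s l hl _ => ?_)
  exact (cancel_mono (cen (R := R))).1 (hl.trans (hcond _ s.fst s.snd s.condition).choose_spec.symm)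

/-- the centre of the special linear group -/
theorem isCentre_cen : Red.IsCentre (cen (R := R) ≫ tor R) := by
  refine ⟨inferInstance, mono_comp _ _, fun X g => ?_⟩
  have h := Groth.Agent.S8447.result (Spec (CommRingCat.of R)) (SL R) (Red.Gm _) (tor R) (isReductive_SL R)
    (isMaximalTorus_tor R) (rt R) (map_rt_ne_one R) (upp R) (low R) (fun X t x => conj_upp R t x)
    (fun X t x => conj_low R t x) (isOpenImmersion_cell R) X g
  simp only [Category.comp_id]
  refine Iff.trans ⟨?_, ?_⟩ h.symm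
  · rintro ⟨z, rfl⟩
    exact ⟨z ≫ cen, Category.assoc _ _ _, by rw [Category.assoc, cen_rt, MonObj.comp_one]⟩
  · rintro ⟨t, rfl, ht⟩
    obtain ⟨z, hz⟩ := exists_cen_fac t ht
    exact ⟨z, by rw [← Category.assoc, hz]⟩

/-- a flat surjective homomorphism is the quotient by its kernel -/
theorem isQuotient_of_kernel {S : Scheme.{u}} {G M Q : Over S} [GrpObj G] [GrpObj M] [GrpObj Q] (i : M ⟶ G) [Mono i]
    (q : G ⟶ Q) [IsMonHom q] [Surjective q.left] [Flat q.left] [LocallyOfFinitePresentation q.left]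
    (hker : AlgGrp.IsKernel i q) : RedSub.IsQuotient i q := by
  refine ⟨inferInstance, inferInstance, inferInstance, ?_⟩
  let r : G ⊗ M ⟶ G := (G ◁ i) ≫ μ[G]
  have hr : r = fst G M * (snd G M ≫ i) := by
    rw [Hom.mul_def]
    show (G ◁ i) ≫ μ[G] = lift (fst G M) (snd G M ≫ i) ≫ μ[G]
    congr 1
  have hiq : i ≫ q = 1 := hker.w.trans Hom.one_def.symm
  have hw : fst G M ≫ q = r ≫ q := by
    rw [hr, MonObj.mul_comp, Category.assoc, hiq, MonObj.comp_one, _root_.mul_one]
  have hcrit : ∀ {X : Over S} (a b : X ⟶ G), a ≫ q = b ≫ q → ∃ c : X ⟶ M, c ≫ i = a⁻¹ * b := by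
    intro X a b h
    obtain ⟨c, hc, -⟩ := hker.exists_lift (a⁻¹ * b) (toUnit X) (by
      rw [MonObj.mul_comp, GrpObj.inv_comp, h, inv_mul_cancel, Hom.one_def])
    exact ⟨c, hc⟩
  refine ⟨⟨hw⟩, ⟨PullbackCone.IsLimit.mk hw
    (fun c => lift c.fst (hcrit c.fst c.snd c.condition).choose) (fun c => lift_fst _ _) (fun c => ?_)
    (fun c m h1 h2 => ?_)⟩⟩
  · have := (hcrit c.fst c.snd c.condition).choose_spec
    show lift c.fst _ ≫ r = c.snd
    rw [hr, MonObj.comp_mul, lift_fst, lift_snd_assoc, this, mul_inv_cancel_left]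
  · refine CartesianMonoidalCategory.hom_ext _ _ (by rw [lift_fst]; exact h1) ?_
    rw [lift_snd, ← cancel_mono i, (hcrit c.fst c.snd c.condition).choose_spec, ← h1, ← h2]
    show (m ≫ snd G M) ≫ i = (m ≫ fst G M)⁻¹ * (m ≫ r)
    rw [hr, MonObj.comp_mul, inv_mul_cancel_left, Category.assoc]

variable {G : Over (Spec (CommRingCat.of R))} [GrpObj G] (D : Red.SplitRed G) (a : D.idx)

/-- the big cell in rank one -/
theorem isOpenImmersion_pair [Nonempty ↥(Spec (CommRingCat.of R))]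
    (hidx : ∀ c : D.idx, c = a ∨ c = D.P.reflectionPerm a a) :
    ∃ b : D.P.Base, a ∈ RedSub.posRoots D.P b ∧
      IsOpenImmersion (RankOne.cell D.i (D.u a) (D.u (D.P.reflectionPerm a a))).left := by
  classical
  haveI : Finite D.idx := Finite.of_fintype _
  have hroot : D.P.root (D.P.reflectionPerm a a) = -D.P.root a := root_neg' D.P a
  obtain ⟨b₀⟩ := AlmostSimple.exists_base D
  obtain ⟨b, hb⟩ : ∃ b : D.P.Base, a ∈ RedSub.posRoots D.P b := by
    rcases pos_or_neg D.P b₀ a with h | h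
    · exact ⟨b₀, h⟩
    · exact ⟨negBase D.P b₀, by rw [posRoots_negBase]; exact h⟩
  refine ⟨b, hb, ?_⟩
  obtain ⟨lam, hl⟩ := hasLam b
  have hneg : D.P.reflectionPerm a a ∈ RedSub.negRoots D.P b := by
    show -D.P.root _ ∈ AddSubmonoid.closure _
    rw [hroot, neg_neg]; exact hb
  have hp : RedSub.Enumerates (RedSub.posRoots D.P b) (fun _ : Fin 1 => a) := by
    refine ⟨fun _ _ _ => Subsingleton.elim _ _, Set.ext fun c => ?_⟩
    rw [Set.mem_range]
    refine ⟨by rintro ⟨-, rfl⟩; exact hb, fun hc => ?_⟩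
    rcases hidx c with rfl | rfl
    · exact ⟨0, rfl⟩
    · have := (hl _).1 hc
      have := (hl _).2 hneg
      omega
  have hn : RedSub.Enumerates (RedSub.negRoots D.P b) (fun _ : Fin 1 => D.P.reflectionPerm a a) := by
    refine ⟨fun _ _ _ => Subsingleton.elim _ _, Set.ext fun c => ?_⟩
    rw [Set.mem_range]
    refine ⟨by rintro ⟨-, rfl⟩; exact hneg, fun hc => ?_⟩
    rcases hidx c with rfl | rfl
    · have := (hl _).1 hb
      have := (hl _).2 hc
      omega
    · exact ⟨0, rfl⟩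
  haveI := isOpenImmersion_cellMap hn hp
  let e : (Red.Ga (Spec (CommRingCat.of R)) ⊗ D.T) ⊗ Red.Ga (Spec (CommRingCat.of R)) ⟶ cellSpace D 1 1 :=
    Coroot.emb 0 0
  let e' : cellSpace D 1 1 ⟶ (Red.Ga (Spec (CommRingCat.of R)) ⊗ D.T) ⊗ Red.Ga (Spec (CommRingCat.of R)) :=
    lift (lift (fst _ _ ≫ proj _ 1 0) (snd _ _ ≫ fst _ _)) (snd _ _ ≫ snd _ _ ≫ proj _ 1 0)
  have h1 : e ≫ e' = 𝟙 _ := by
    apply CartesianMonoidalCategory.hom_ext
    · apply CartesianMonoidalCategory.hom_ext <;>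
        simp [e, e', Coroot.emb, tup_proj]
    · simp [e, e', Coroot.emb, tup_proj]
  have h2 : e' ≫ e = 𝟙 _ := by
    apply CartesianMonoidalCategory.hom_ext
    · refine pow_ext fun k => ?_
      obtain rfl : k = 0 := Subsingleton.elim _ _
      simp [e, e', Coroot.emb, tup_proj]
    · apply CartesianMonoidalCategory.hom_ext
      · simp [e, e', Coroot.emb]
      · refine pow_ext fun k => ?_
        obtain rfl : k = 0 := Subsingleton.elim _ _
        simp [e, e', Coroot.emb, tup_proj]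
  haveI : IsIso e := ⟨e', h1, h2⟩
  haveI : IsIso e.left := inferInstanceAs (IsIso ((Over.forget _).map e))
  rw [← Coroot.emb_cellMap (D := D) hn.1 hp.1 0 0, Over.comp_left]
  exact inferInstanceAs (IsOpenImmersion (e.left ≫ _))

/-- **Rank one.** -/
theorem rank_one [Nonempty ↥(Spec (CommRingCat.of R))] (hidx : ∀ c : D.idx, c = a ∨ c = D.P.reflectionPerm a a)
    (hinj : Function.Injective (D.P.coroot a)) :
    ∃ p : SL R ⟶ G, IsMonHom p ∧ tor R ≫ p = Coroot.coav D a ≫ D.i ∧ Flat p.left ∧ Surjective p.left ∧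
      LocallyOfFinitePresentation p.left ∧
      ((1 : ℤ) ∈ LinearMap.range (D.P.coroot a) → IsIso p) ∧
      ((1 : ℤ) ∉ LinearMap.range (D.P.coroot a) → AlgGrp.IsKernel (cen (R := R) ≫ tor R) p) := by
  classical
  haveI := isMonHom_i (D := D)
  haveI : Mono D.i := D.maximalTorus.2.1
  haveI : ∀ c, IsMonHom (D.u c) := fun c => (D.rootHom c).1
  haveI : ∀ c, Mono (D.u c) := fun c => by
    haveI := (D.rootHom c).2.1
    exact Over.mono_of_mono_left _
  let α : D.T ⟶ Red.Gm (Spec (CommRingCat.of R)) := D.split.hom.hom.hom ≫ Red.chi _ (D.P.root a)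
  haveI : IsMonHom (Red.chi (Spec (CommRingCat.of R)) (D.P.root a)) := TorusTorsion.isMonHom_DSmap _ _
  haveI : IsMonHom α := inferInstanceAs (IsMonHom (D.split.hom.hom.hom ≫ Red.chi _ (D.P.root a)))
  let ψ : D.M →+ ℤ := (D.P.coroot a).toAddMonoidHom
  let fT : Red.Gm (Spec (CommRingCat.of R)) ⟶ D.T := Coroot.coav D a
  haveI : IsMonHom (Red.DSmap (Spec (CommRingCat.of R)) ψ) := TorusTorsion.isMonHom_DSmap _ _
  haveI : IsMonHom fT := inferInstanceAs (IsMonHom (Red.DSmap _ ψ ≫ D.split.inv.hom.hom))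
  obtain ⟨b, hb, hcell⟩ := isOpenImmersion_pair D a hidx
  obtain ⟨c, hc⟩ := Coroot.exists_formula_pos b hb
  -- rescale the negative root group
  let cu : (Γ(Spec (CommRingCat.of R), ⊤))ˣ := GmPts.unitOfPt c
  have hcX : ∀ X : Over (Spec (CommRingCat.of R)), Red.gmFn (toUnit X ≫ c) =
      X.hom.appTop (cu : Γ(Spec (CommRingCat.of R), ⊤)) := fun X => by rw [GmPts.gmFn_comp]; rfl
  let e : Red.Ga (Spec (CommRingCat.of R)) ≅ Red.Ga (Spec (CommRingCat.of R)) :=
    ⟨mulBy (↑cu⁻¹ : Γ(Spec (CommRingCat.of R), ⊤)), mulBy (cu : Γ(Spec (CommRingCat.of R), ⊤)),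
      mulBy_mulBy _ _ cu.mul_inv, mulBy_mulBy _ _ cu.inv_mul⟩
  haveI : IsMonHom e.hom := isMonHom_mulBy _
  haveI : IsIso e.hom := e.isIso_hom
  let pm := e.hom ≫ D.u (D.P.reflectionPerm a a)
  haveI : IsMonHom pm := inferInstanceAs (IsMonHom (e.hom ≫ _))
  haveI : Mono pm := mono_comp _ _
  have hyv : ∀ {X : Over (Spec (CommRingCat.of R))} (y : X ⟶ Red.Ga (Spec (CommRingCat.of R))),
      Red.gmFn (toUnit X ≫ c) * Red.gaFn (y ≫ e.hom) = Red.gaFn y := fun {X} y => by
    rw [show e.hom = mulBy (↑cu⁻¹ : Γ(Spec (CommRingCat.of R), ⊤)) from rfl, gaFn_mulBy, hcX, ← _root_.mul_assoc,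
      ← map_mul, Units.mul_inv, map_one, _root_.one_mul]
  have hinv : ∀ {X : Over (Spec (CommRingCat.of R))} (y : X ⟶ Red.Ga (Spec (CommRingCat.of R))),
      Red.gaFn (y ≫ e.inv) = Red.gmFn (toUnit X ≫ c) * Red.gaFn y := fun {X} y => by
    rw [show e.inv = mulBy (cu : Γ(Spec (CommRingCat.of R), ⊤)) from rfl, gaFn_mulBy, hcX]
  have hpm : ∀ (X : Over (Spec (CommRingCat.of R))) (t : X ⟶ D.T) (y : X ⟶ Red.Ga _), ∃ y' : X ⟶ Red.Ga _,
      y' ≫ pm = (t ≫ D.i) * (y ≫ pm) * (t ≫ D.i)⁻¹ ∧ Red.gaFn y' * Red.gmFn (t ≫ α) = Red.gaFn y := fun X t y => by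
    obtain ⟨y', hy, hy'⟩ := (D.rootHom (D.P.reflectionPerm a a)).2.2 X t (y ≫ e.hom)
    refine ⟨y' ≫ e.inv, by simpa only [pm, Category.assoc, Iso.inv_hom_id_assoc] using hy, ?_⟩
    have h := Coroot.gmFn_root_neg (D := D) t a
    rw [hinv, hy']
    linear_combination (Red.gmFn (toUnit X ≫ c) * Red.gaFn (y ≫ e.hom)) * h + hyv y
  have hΩ : IsOpenImmersion (RankOne.cell D.i (D.u a) pm).left := by
    have e' : RankOne.cell D.i (D.u a) pm =
        ((e.hom ▷ D.T) ▷ Red.Ga _) ≫ RankOne.cell D.i (D.u a) (D.u (D.P.reflectionPerm a a)) := by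
      conv_lhs => rw [← Category.id_comp (RankOne.cell D.i (D.u a) pm)]
      rw [show 𝟙 ((Red.Ga (Spec (CommRingCat.of R)) ⊗ D.T) ⊗ Red.Ga (Spec (CommRingCat.of R))) =
          lift (lift (fst _ _ ≫ fst _ _) (fst _ _ ≫ snd _ _)) (snd _ _) by
        rw [← comp_lift, lift_fst_snd, Category.comp_id, lift_fst_snd],
        lift_cell, show (e.hom ▷ D.T) ▷ Red.Ga _ =
          lift (lift ((fst _ _ ≫ fst _ _) ≫ e.hom) (fst _ _ ≫ snd _ _)) (snd _ _) by
          apply CartesianMonoidalCategory.hom_ext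
          · rw [whiskerRight_fst, lift_fst, Category.assoc, ← whiskerRight_fst e.hom D.T, ← Category.assoc]
            apply CartesianMonoidalCategory.hom_ext
            · simp only [Category.assoc, lift_fst]
            · simp only [Category.assoc, lift_snd, whiskerRight_snd]
          · rw [whiskerRight_snd, lift_snd],
        lift_cell]
      simp only [pm, Category.assoc]
    rw [e', Over.comp_left]
    haveI : IsIso ((e.hom ▷ D.T) ▷ Red.Ga _) := (whiskerRightIso (whiskerRightIso e D.T) (Red.Ga _)).isIso_hom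
    haveI : IsIso ((e.hom ▷ D.T) ▷ Red.Ga _).left :=
      inferInstanceAs (IsIso ((Over.forget _).map ((e.hom ▷ D.T) ▷ Red.Ga _)))
    haveI := hcell
    infer_instance
  have hF : ∀ (X : Over (Spec (CommRingCat.of R))) (x y : X ⟶ Red.Ga _), IsUnit (1 + Red.gaFn x * Red.gaFn y) →
      ∃ (x' y' : X ⟶ Red.Ga _) (z : X ⟶ Red.Gm _), Red.gmFn z = 1 + Red.gaFn x * Red.gaFn y ∧
        Red.gaFn x' * Red.gmFn z = Red.gaFn x ∧ Red.gaFn y' * Red.gmFn z = Red.gaFn y ∧
        (x ≫ D.u a) * (y ≫ pm) = (y' ≫ pm) * (z ≫ fT ≫ D.i) * (x' ≫ D.u a) := fun X x y hu => by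
    obtain ⟨x', y', z, hz, hx', hy', he'⟩ := hc X x (y ≫ e.hom) (by
      rw [show Red.gmFn (toUnit X ≫ c) * Red.gaFn x * Red.gaFn (y ≫ e.hom) = Red.gaFn x * Red.gaFn y by
        linear_combination Red.gaFn x * hyv y]
      exact hu)
    refine ⟨x', y' ≫ e.inv, z, by linear_combination hz + Red.gaFn x * hyv y, hx', ?_, ?_⟩
    · rw [hinv, _root_.mul_assoc, hy', hyv]
    · simpa only [pm, fT, Coroot.coav, Category.assoc, Iso.inv_hom_id_assoc] using he'
  have hfTα : fT ≫ α = rt R := by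
    refine GmPts.gmFn_injective ?_
    show Red.gmFn (fT ≫ D.split.hom.hom.hom ≫ Red.chi _ (D.P.root a)) = Red.gmFn _
    rw [← Category.id_comp (rt R), gmFn_rt, Coroot.gmFn_chi_char, gmFn_eq_char, ← map_mul]
    simp only [fT, Coroot.coav, Category.assoc]
    rw [split_inv_hom, Category.comp_id, ← Category.id_comp (Red.DSmap _ _), SplitSub.char_DSmap]
    show DSPts.char (𝟙 _) (Multiplicative.ofAdd (D.P.coroot a (D.P.root a))) = _
    rw [Coroot.coroot_root_self, ← ofAdd_add]
    rfl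
  have h2 : (𝟙 (Red.Gm (Spec (CommRingCat.of R)))) ≫ rt R = (𝟙 (Red.Gm (Spec (CommRingCat.of R)))) ^ 2 :=
    Category.id_comp _
  let c1 : 𝟙_ (Over (Spec (CommRingCat.of R))) ⟶ Red.Gm (Spec (CommRingCat.of R)) := 1
  have hhom := Groth.Agent.S8453.result (Spec (CommRingCat.of R)) (SL R) (Red.Gm _) (tor R) (isReductive_SL R)
    (isMaximalTorus_tor R) (rt R) (map_rt_ne_one R) (upp R) (low R) (fun X t x => conj_upp R t x)
    (fun X t x => conj_low R t x) (isOpenImmersion_cell R) (𝟙 _) h2 (fun X x y hu => commutation R x y hu)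
    G D.T D.i D.reductive D.maximalTorus α (Coroot.root_ne_one_geom a) (D.u a) pm (D.rootHom a).2.2 hpm hΩ fT
    hfTα hF 1 one_pos (fun X x y => by simp only [pow_one]) c1 fT (by rw [pow_one]; exact hfTα)
    (by rw [pow_one, Category.id_comp])
  obtain ⟨p, ⟨hp, hpT, hpp⟩, -⟩ := hhom.1
  haveI := hp
  have hpp' : ∀ (X : Over (Spec (CommRingCat.of R))) (x y : X ⟶ Red.Ga _),
      Red.gaFn y = Red.gmFn (toUnit X ≫ c1) * Red.gaFn x → (x ≫ upp R) ≫ p = y ≫ D.u a :=
    fun X x y h => hpp X x y (by rwa [pow_one])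
  -- the image of the coroot
  have hsmul : ∀ m : D.M, ψ m • D.P.root a = (2 : ℤ) • m := fun m => hinj (by
    show ψ (ψ m • D.P.root a) = ψ ((2 : ℤ) • m)
    rw [map_zsmul, map_zsmul, show ψ (D.P.root a) = 2 from Coroot.coroot_root_self a, smul_eq_mul, smul_eq_mul]
    ring)
  haveI := isReductive_SL R
  haveI : IsIso D.split.inv.hom.hom := ⟨D.split.hom.hom.hom, split_inv_hom, split_hom_inv⟩
  haveI : IsIso D.split.inv.hom.hom.left := inferInstanceAs (IsIso ((Over.forget _).map D.split.inv.hom.hom))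
  haveI : Smooth G.hom := D.reductive.2.1
  haveI : LocallyOfFiniteType G.hom := inferInstance
  haveI : Smooth (SL R).hom := smooth_SL
  haveI : LocallyOfFinitePresentation (p.left ≫ G.hom) := by rw [Over.w]; infer_instance
  haveI : LocallyOfFinitePresentation p.left := Groth.L20.locallyOfFinitePresentation_of_comp p.left G.hom
  by_cases h1 : (1 : ℤ) ∈ LinearMap.range (D.P.coroot a)
  · have hiso : IsIso p := by
      obtain ⟨m₁, hm₁⟩ := h1
      have hbij : Function.Bijective ψ := ⟨hinj, fun n => ⟨n • m₁, by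
        rw [map_zsmul, show ψ m₁ = 1 from hm₁, smul_eq_mul, _root_.mul_one]⟩⟩
      let ee := AddEquiv.ofBijective ψ hbij
      have e1 : IsIso (Red.DSmap (Spec (CommRingCat.of R)) ψ) :=
        ⟨Red.DSmap (Spec (CommRingCat.of R)) ee.symm.toAddMonoidHom,
          by rw [TorusTorsion.DSmap_comp, show ψ.comp ee.symm.toAddMonoidHom = AddMonoidHom.id ℤ from
            AddMonoidHom.ext ee.apply_symm_apply, TorusTorsion.DSmap_id],
          by rw [TorusTorsion.DSmap_comp, show ee.symm.toAddMonoidHom.comp ψ = AddMonoidHom.id D.M from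
            AddMonoidHom.ext ee.symm_apply_apply, TorusTorsion.DSmap_id]⟩
      haveI := e1
      haveI : IsIso fT := inferInstanceAs (IsIso (Red.DSmap _ ψ ≫ D.split.inv.hom.hom))
      haveI := Groth.Agent.S8454.result (Spec (CommRingCat.of R)) (SL R) (Red.Gm _) (tor R) (isReductive_SL R)
        (isMaximalTorus_tor R) (rt R) (map_rt_ne_one R) (upp R) (low R) (fun X t x => conj_upp R t x)
        (fun X t x => conj_low R t x) (isOpenImmersion_cell R) (𝟙 _) h2 (fun X x y hu => commutation R x y hu)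
        G D.T D.i D.reductive D.maximalTorus α (Coroot.root_ne_one_geom a) (D.u a) pm (D.rootHom a).2.2 hpm hΩ fT
        hfTα hF c1 fT hfTα (Category.id_comp _) p hpT hpp'
      exact ‹IsIso p›
    haveI := hiso
    haveI : IsIso p.left := inferInstanceAs (IsIso ((Over.forget _).map p))
    exact ⟨p, hp, hpT, inferInstance, inferInstance, inferInstance, fun _ => hiso, fun h => absurd h1 h⟩
  · have hev : ∀ m : D.M, (2 : ℤ) ∣ ψ m := fun m => by
      by_contra hd
      obtain ⟨q, hq⟩ := Int.odd_iff.2 (Int.emod_two_ne_zero.1 fun h => hd (Int.dvd_of_emod_eq_zero h))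
      refine h1 ⟨m - q • D.P.root a, ?_⟩
      show ψ (m - q • D.P.root a) = 1
      rw [map_sub, map_zsmul, show ψ (D.P.root a) = 2 from Coroot.coroot_root_self a, smul_eq_mul, hq]
      ring
    let ee : D.M →+ ℤ := AddMonoidHom.mk' (fun m => ψ m / 2) fun m m' => by
      show ψ (m + m') / 2 = ψ m / 2 + ψ m' / 2
      rw [map_add, Int.add_ediv_of_dvd_left (hev m)]
    let ff : ℤ →+ D.M := zmultiplesHom D.M (D.P.root a)
    have hff1 : ff.comp ee = AddMonoidHom.id D.M := AddMonoidHom.ext fun m => hinj (by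
      show ψ ((ψ m / 2) • D.P.root a) = ψ m
      rw [map_zsmul, show ψ (D.P.root a) = 2 from Coroot.coroot_root_self a, smul_eq_mul,
        Int.ediv_mul_cancel (hev m)])
    have hff2 : ee.comp ff = AddMonoidHom.id ℤ := AddMonoidHom.ext_int (by
      show ψ ((1 : ℤ) • D.P.root a) / 2 = 1
      rw [one_zsmul, show ψ (D.P.root a) = 2 from Coroot.coroot_root_self a]
      rfl)
    let g : Red.Gm (Spec (CommRingCat.of R)) ⟶ D.T := Red.DSmap _ ee ≫ D.split.inv.hom.hom
    haveI : IsIso (Red.DSmap (Spec (CommRingCat.of R)) ee) := ⟨Red.DSmap _ ff,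
      by rw [TorusTorsion.DSmap_comp, hff2, TorusTorsion.DSmap_id],
      by rw [TorusTorsion.DSmap_comp, hff1, TorusTorsion.DSmap_id]⟩
    haveI : IsIso g := inferInstanceAs (IsIso (Red.DSmap _ ee ≫ D.split.inv.hom.hom))
    haveI : IsIso g.left := inferInstanceAs (IsIso ((Over.forget _).map g))
    haveI : IsMonHom (Red.DSmap (Spec (CommRingCat.of R)) ee) := TorusTorsion.isMonHom_DSmap _ _
    haveI : IsMonHom g := inferInstanceAs (IsMonHom (Red.DSmap _ ee ≫ D.split.inv.hom.hom))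
    have hgα : g ≫ α = 𝟙 _ := by
      show (Red.DSmap _ ee ≫ D.split.inv.hom.hom) ≫ D.split.hom.hom.hom ≫ Red.DSmap _ ff = _
      rw [Category.assoc, ← Category.assoc D.split.inv.hom.hom, split_inv_hom, Category.id_comp,
        TorusTorsion.DSmap_comp, hff2, TorusTorsion.DSmap_id]
    have hαg : α ≫ g = 𝟙 _ := by
      rw [← cancel_epi g, ← Category.assoc, hgα, Category.id_comp, Category.comp_id]
    have hfac : fT = rt R ≫ g := by rw [← hfTα, Category.assoc, hαg, Category.comp_id]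
    obtain ⟨hfl, hsu⟩ := ((Groth.Agent.S5421.result (Spec (CommRingCat.of R)) (Red.Gm _)
      (isMaximalTorus_tor R).2.2.1 (rt R)).2).1 (map_rt_ne_one R)
    have hfTfl : Flat fT.left := by rw [hfac, Over.comp_left]; infer_instance
    have hfTsu : Surjective fT.left := by rw [hfac, Over.comp_left]; infer_instance
    have hkT : AlgGrp.IsKernel (cen (R := R)) fT := by
      rw [hfac]
      refine IsPullback.of_iso (isKernel_cen (R := R)) (Iso.refl _) (Iso.refl _) (Iso.refl _) (asIso g)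
        (by simp) (by simp) (by simp) ((Category.id_comp _).trans (IsMonHom.one_hom g).symm |> fun h => by simpa using h.symm)
    obtain ⟨hpfl, hpsu, -, hker⟩ := Groth.Agent.S8455.result (Spec (CommRingCat.of R)) (SL R) (Red.Gm _) (tor R)
      (isReductive_SL R) (isMaximalTorus_tor R) (rt R) (map_rt_ne_one R) (upp R) (low R) (fun X t x => conj_upp R t x)
      (fun X t x => conj_low R t x) (isOpenImmersion_cell R) (𝟙 _) h2 (fun X x y hu => commutation R x y hu)
      G D.T D.i D.reductive D.maximalTorus α (Coroot.root_ne_one_geom a) (D.u a) pm (D.rootHom a).2.2 hpm hΩ fT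
      hfTα hF c1 fT hfTfl hfTsu _ (cen (R := R)) hkT hfTα (Category.id_comp _) p hpT hpp'
    exact ⟨p, hp, hpT, hpfl, hpsu, ‹LocallyOfFinitePresentation p.left›, fun h => absurd h h1, fun _ => hker⟩

end Groth.L14.SL2
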