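import Groth.Agent.L14.SL2.BC
import Groth.Agent.L08.Borel.MaxTori
import Groth.Agent.L08.Borel.TorusLift
import Groth.Agent.L25.TorLift.TorusCov
import Groth.Agent.L25.GaPts
import Groth.Prelude.Def_GmPts

/-!
# The rank-one system of the special linear group
-/

set_option autoImplicit false
set_option linter.unusedSectionVars false
set_option linter.style.haveILetI false
set_option backward.isDefEq.respectTransparency.types false
set_option maxHeartbeats 1000000

universe u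

open CategoryTheory CategoryTheory.Limits MonoidalCategory CartesianMonoidalCategory MonObj AlgebraicGeometry
open Groth.L25

noncomputable section

namespace Groth.L14.SL2

variable (R : Type u) [CommRing R]

/-- the diagonal matrix of a unit -/
def dMat {S : Scheme.{u}} {X : Over S} (z : X ⟶ Red.Gm S) : Matrix (Fin 2) (Fin 2) Γ(X.left, ⊤) :=
  !![Red.gmFn z, 0; 0, Red.gmFn z⁻¹]

theorem det_dMat {S : Scheme.{u}} {X : Over S} (z : X ⟶ Red.Gm S) : (dMat z).det = 1 := by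
  rw [Matrix.det_fin_two]
  simp [dMat]
  rw [_root_.mul_comm]
  exact GmPts.gmFn_inv z

theorem gmFn_mul_inv {S : Scheme.{u}} {X : Over S} (z : X ⟶ Red.Gm S) : Red.gmFn z * Red.gmFn z⁻¹ = 1 := by
  rw [_root_.mul_comm]; exact GmPts.gmFn_inv z

theorem map_fin_two {A B : Type*} [CommRing A] [CommRing B] (f : A →+* B) (a b c d : A) :
    (!![a, b; c, d]).map f = !![f a, f b; f c, f d] := by
  ext i j; fin_cases i <;> fin_cases j <;> rfl

/-- the diagonal torus -/
def tor : Red.Gm (Spec (CommRingCat.of R)) ⟶ SL R := mk (dMat (𝟙 _)) (det_dMat _)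

/-- the upper root group -/
def upp : Red.Ga (Spec (CommRingCat.of R)) ⟶ SL R := mk (uMat (Red.gaFn (𝟙 _))) (det_uMat _)

/-- the lower root group -/
def low : Red.Ga (Spec (CommRingCat.of R)) ⟶ SL R := mk (vMat (Red.gaFn (𝟙 _))) (det_vMat _)

/-- the root -/
def rt : Red.Gm (Spec (CommRingCat.of R)) ⟶ Red.Gm (Spec (CommRingCat.of R)) :=
  (𝟙 (Red.Gm (Spec (CommRingCat.of R)))) ^ 2

variable {R} {X : Over (Spec (CommRingCat.of R))}

theorem mat_tor (z : X ⟶ Red.Gm (Spec (CommRingCat.of R))) : mat (z ≫ tor R) = dMat z := by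
  rw [mat_comp, tor, mat_mk, dMat, dMat]
  refine (map_fin_two z.left.appTop.hom _ _ _ _).trans ?_
  rw [map_zero, ← GmPts.gmFn_comp, ← GmPts.gmFn_comp, GrpObj.comp_inv, Category.comp_id]

theorem mat_upp (x : X ⟶ Red.Ga (Spec (CommRingCat.of R))) : mat (x ≫ upp R) = uMat (Red.gaFn x) := by
  rw [mat_comp, upp, mat_mk, uMat, uMat]
  refine (map_fin_two x.left.appTop.hom _ _ _ _).trans ?_
  rw [map_zero, map_one, ← GaPts.gaFn_comp, Category.comp_id]

theorem mat_low (x : X ⟶ Red.Ga (Spec (CommRingCat.of R))) : mat (x ≫ low R) = vMat (Red.gaFn x) := by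
  rw [mat_comp, low, mat_mk, vMat, vMat]
  refine (map_fin_two x.left.appTop.hom _ _ _ _).trans ?_
  rw [map_zero, map_one, ← GaPts.gaFn_comp, Category.comp_id]

theorem gmFn_rt (z : X ⟶ Red.Gm (Spec (CommRingCat.of R))) : Red.gmFn (z ≫ rt R) = Red.gmFn z * Red.gmFn z := by
  rw [rt, pow_two, MonObj.comp_mul, GmPts.gmFn_mul, Category.comp_id]

variable (R)

theorem gmFn_inv_mul {S : Scheme.{u}} {Y : Over S} (s t : Y ⟶ Red.Gm S) :
    Red.gmFn (s * t)⁻¹ = Red.gmFn s⁻¹ * Red.gmFn t⁻¹ := by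
  have h := GmPts.gmFn_inv (s * t)
  rw [GmPts.gmFn_mul] at h
  exact left_inv_eq_right_inv h (by linear_combination (Red.gmFn t⁻¹ * Red.gmFn t) * GmPts.gmFn_inv s + GmPts.gmFn_inv t)

instance isMonHom_tor : IsMonHom (tor R) :=
  Groth.L25.Bridge.isMonHom_of_mul (tor R) fun Y s t => mat_injective (by
    rw [mat_mul, mat_tor, mat_tor, mat_tor]
    simp [dMat, gmFn_inv_mul, GmPts.gmFn_mul])

instance isMonHom_upp : IsMonHom (upp R) :=
  Groth.L25.Bridge.isMonHom_of_mul (upp R) fun Y s t => mat_injective (by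
    rw [mat_mul, mat_upp, mat_upp, mat_upp]
    simp [uMat, GaPts.gaFn_mul, add_comm])

instance isMonHom_low : IsMonHom (low R) :=
  Groth.L25.Bridge.isMonHom_of_mul (low R) fun Y s t => mat_injective (by
    rw [mat_mul, mat_low, mat_low, mat_low]
    simp [vMat, GaPts.gaFn_mul, add_comm])

instance isMonHom_rt : IsMonHom (rt R) :=
  Groth.L25.Bridge.isMonHom_of_mul (rt R) fun Y s t => GmPts.gmFn_injective (by
    show Red.gmFn _ = Red.gmFn _
    rw [GmPts.gmFn_mul, gmFn_rt, gmFn_rt, gmFn_rt, GmPts.gmFn_mul]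
    ring)

instance mono_tor : Mono (tor R) := ⟨fun a b h => GmPts.gmFn_injective (by
  simpa [mat_tor, dMat] using congrFun (congrFun (congrArg mat h) 0) 0)⟩

instance mono_upp : Mono (upp R) := ⟨fun a b h => GaPts.gaFn_injective (by
  simpa [mat_upp, uMat] using congrFun (congrFun (congrArg mat h) 0) 1)⟩

instance mono_low : Mono (low R) := ⟨fun a b h => GaPts.gaFn_injective (by
  simpa [mat_low, vMat] using congrFun (congrFun (congrArg mat h) 1) 0)⟩

theorem conj_upp (t : X ⟶ Red.Gm (Spec (CommRingCat.of R))) (x : X ⟶ Red.Ga (Spec (CommRingCat.of R))) :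
    ∃ x' : X ⟶ Red.Ga (Spec (CommRingCat.of R)),
      x' ≫ upp R = (t ≫ tor R) * (x ≫ upp R) * (t ≫ tor R)⁻¹ ∧
        Red.gaFn x' = Red.gmFn (t ≫ rt R) * Red.gaFn x := by
  refine ⟨GaPts.ptOfElt (Red.gmFn t * Red.gmFn t * Red.gaFn x), mat_injective ?_,
    by rw [GaPts.gaFn_ptOfElt, gmFn_rt]⟩
  rw [mat_mul, mat_mul, mat_inv, mat_tor, mat_upp, mat_upp, GaPts.gaFn_ptOfElt, dMat, Matrix.adjugate_fin_two]
  have h := GmPts.gmFn_inv t
  ext i j
  fin_cases i <;> fin_cases j <;> simp [uMat, Matrix.mul_apply, Fin.sum_univ_two] <;>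
    first | ring1 | linear_combination h | linear_combination -h

theorem conj_low (t : X ⟶ Red.Gm (Spec (CommRingCat.of R))) (x : X ⟶ Red.Ga (Spec (CommRingCat.of R))) :
    ∃ x' : X ⟶ Red.Ga (Spec (CommRingCat.of R)),
      x' ≫ low R = (t ≫ tor R) * (x ≫ low R) * (t ≫ tor R)⁻¹ ∧
        Red.gaFn x' * Red.gmFn (t ≫ rt R) = Red.gaFn x := by
  have h := GmPts.gmFn_inv t
  refine ⟨GaPts.ptOfElt (Red.gmFn t⁻¹ * Red.gmFn t⁻¹ * Red.gaFn x), mat_injective ?_, ?_⟩
  · rw [mat_mul, mat_mul, mat_inv, mat_tor, mat_low, mat_low, GaPts.gaFn_ptOfElt, dMat, Matrix.adjugate_fin_two]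
    ext i j
    fin_cases i <;> fin_cases j <;> simp [vMat, Matrix.mul_apply, Fin.sum_univ_two] <;>
      first | ring1 | linear_combination h | linear_combination -h
  · rw [GaPts.gaFn_ptOfElt, gmFn_rt]
    linear_combination Red.gaFn x * (Red.gmFn t⁻¹ * Red.gmFn t + 1) * h

theorem commutation (x y : X ⟶ Red.Ga (Spec (CommRingCat.of R))) (hu : IsUnit (1 + Red.gaFn x * Red.gaFn y)) :
    ∃ (x' y' : X ⟶ Red.Ga (Spec (CommRingCat.of R))) (z : X ⟶ Red.Gm (Spec (CommRingCat.of R))),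
      Red.gmFn z = 1 + Red.gaFn x * Red.gaFn y ∧ Red.gaFn x' * Red.gmFn z = Red.gaFn x ∧
      Red.gaFn y' * Red.gmFn z = Red.gaFn y ∧
        (x ≫ upp R) * (y ≫ low R) =
          (y' ≫ low R) * (z ≫ 𝟙 (Red.Gm (Spec (CommRingCat.of R))) ≫ tor R) * (x' ≫ upp R) := by
  let z : X ⟶ Red.Gm (Spec (CommRingCat.of R)) := GmPts.ptOfUnit hu.unit
  have hz : Red.gmFn z = 1 + Red.gaFn x * Red.gaFn y := by rw [GmPts.gmFn_ptOfUnit]; rfl
  have h := GmPts.gmFn_inv z
  refine ⟨GaPts.ptOfElt (Red.gmFn z⁻¹ * Red.gaFn x), GaPts.ptOfElt (Red.gmFn z⁻¹ * Red.gaFn y), z, hz, ?_, ?_,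
    mat_injective ?_⟩
  · rw [GaPts.gaFn_ptOfElt]; linear_combination Red.gaFn x * h
  · rw [GaPts.gaFn_ptOfElt]; linear_combination Red.gaFn y * h
  rw [mat_mul, mat_mul, mat_mul, Category.id_comp, mat_tor, mat_upp, mat_low, mat_upp, mat_low, GaPts.gaFn_ptOfElt,
    GaPts.gaFn_ptOfElt, dMat]
  ext i j
  fin_cases i <;> fin_cases j <;> simp [uMat, vMat, Matrix.mul_apply, Fin.sum_univ_two]
  · linear_combination -hz
  · linear_combination -(Red.gaFn x) * h
  · linear_combination -(Red.gaFn y) * h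
  · linear_combination -(Red.gmFn z⁻¹ * Red.gaFn x * Red.gaFn y + 1) * h + Red.gmFn z⁻¹ * hz

/-- the cell -/
abbrev cellHom : (Red.Ga (Spec (CommRingCat.of R)) ⊗ Red.Gm (Spec (CommRingCat.of R))) ⊗
    Red.Ga (Spec (CommRingCat.of R)) ⟶ SL R :=
  ((low R ⊗ₘ tor R) ⊗ₘ upp R) ≫ (μ[SL R] ▷ SL R) ≫ μ[SL R]

theorem mat_cell {Y : Over (Spec (CommRingCat.of R))}
    (c : Y ⟶ (Red.Ga (Spec (CommRingCat.of R)) ⊗ Red.Gm (Spec (CommRingCat.of R))) ⊗
      Red.Ga (Spec (CommRingCat.of R))) :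
    mat (c ≫ cellHom R) =
      !![Red.gmFn (c ≫ fst _ _ ≫ snd _ _), Red.gmFn (c ≫ fst _ _ ≫ snd _ _) * Red.gaFn (c ≫ snd _ _);
         Red.gaFn (c ≫ fst _ _ ≫ fst _ _) * Red.gmFn (c ≫ fst _ _ ≫ snd _ _),
         Red.gaFn (c ≫ fst _ _ ≫ fst _ _) * Red.gmFn (c ≫ fst _ _ ≫ snd _ _) * Red.gaFn (c ≫ snd _ _) +
           Red.gmFn (c ≫ fst _ _ ≫ snd _ _)⁻¹] := by
  have e : cellHom R = ((fst _ _ ≫ fst _ _) ≫ low R) * ((fst _ _ ≫ snd _ _) ≫ tor R) * (snd _ _ ≫ upp R) := by
    have e1 : (low R ⊗ₘ tor R) ≫ μ[SL R] = (fst _ _ ≫ low R) * (snd _ _ ≫ tor R) := by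
      rw [Hom.mul_def, lift_fst_comp_snd_comp]
    have e2 : cellHom R = (((low R ⊗ₘ tor R) ≫ μ[SL R]) ⊗ₘ upp R) ≫ μ[SL R] := by
      rw [cellHom, ← tensorHom_id, tensorHom_comp_tensorHom_assoc, Category.comp_id]
    rw [e2, e1, ← lift_fst_comp_snd_comp, ← Hom.mul_def, MonObj.comp_mul, ← Category.assoc, ← Category.assoc]
  rw [e, MonObj.comp_mul, MonObj.comp_mul, mat_mul, mat_mul]
  simp only [← Category.assoc]
  rw [mat_low, mat_tor, mat_upp, dMat]
  simp only [Category.assoc]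
  ext i j
  fin_cases i <;> fin_cases j <;> simp [uMat, vMat, Matrix.mul_apply, Fin.sum_univ_two]

theorem isOpenImmersion_cell : IsOpenImmersion (cellHom R).left := by
  let W := (Red.Ga (Spec (CommRingCat.of R)) ⊗ Red.Gm (Spec (CommRingCat.of R))) ⊗ Red.Ga (Spec (CommRingCat.of R))
  let a : Γ((SL R).left, ⊤) := mat (𝟙 (SL R)) 0 0
  let B : (SL R).left.Opens := (SL R).left.basicOpen a
  let U : Over (Spec (CommRingCat.of R)) := Over.mk (B.ι ≫ (SL R).hom)
  let ι' : U ⟶ SL R := Over.homMk B.ι rfl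
  haveI : IsOpenImmersion ι'.left := inferInstanceAs (IsOpenImmersion B.ι)
  haveI : Mono ι' := Over.mono_of_mono_left _
  have hpt : ∀ {Y : Over (Spec (CommRingCat.of R))} (y : Y ⟶ SL R), mat y 0 0 = y.left.appTop a := fun y => by
    conv_lhs => rw [← Category.comp_id y, mat_comp]
    rfl
  have hunit : IsUnit (mat ι' 0 0) := by
    rw [hpt]
    show IsUnit (B.ι.appTop a)
    rw [Scheme.Opens.ι_appTop]
    exact ((RingedSpace.isUnit_res_basicOpen _ a).map B.topIso.inv.hom :)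
  let z₀ : U ⟶ Red.Gm (Spec (CommRingCat.of R)) := GmPts.ptOfUnit hunit.unit
  have hz₀ : Red.gmFn z₀ = mat ι' 0 0 := by rw [GmPts.gmFn_ptOfUnit]; rfl
  let g : U ⟶ W := lift (lift (GaPts.ptOfElt (mat ι' 1 0 * Red.gmFn z₀⁻¹)) z₀)
    (GaPts.ptOfElt (mat ι' 0 1 * Red.gmFn z₀⁻¹))
  have hg : g ≫ cellHom R = ι' := by
    refine mat_injective ?_
    rw [mat_cell]
    have h := GmPts.gmFn_inv z₀
    have hd := det_mat ι'
    rw [Matrix.det_fin_two] at hd
    simp only [g, lift_fst_assoc, lift_fst, lift_snd, GaPts.gaFn_ptOfElt]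
    ext i j
    fin_cases i <;> fin_cases j <;> simp only [Fin.zero_eta, Fin.mk_one, Matrix.of_apply, Matrix.cons_val',
      Matrix.cons_val_zero, Matrix.cons_val_one, Matrix.cons_val_fin_one]
    · exact hz₀
    · linear_combination mat ι' 0 1 * h
    · linear_combination mat ι' 1 0 * h
    · rw [← hz₀] at hd
      linear_combination (mat ι' 1 1) * h + (Red.gmFn z₀⁻¹) * (-hd) +
        (mat ι' 0 1 * mat ι' 1 0 * Red.gmFn z₀⁻¹) * h
  have hr : Set.range (cellHom R).left ⊆ Set.range B.ι := by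
    rw [Scheme.Opens.range_ι]
    rintro _ ⟨p, rfl⟩
    show p ∈ (cellHom R).left ⁻¹ᵁ B
    rw [Scheme.preimage_basicOpen_top, ← hpt, ← Category.id_comp (cellHom R), mat_cell,
      Scheme.basicOpen_of_isUnit]
    · trivial
    · simpa using GmPts.isUnit_gmFn (𝟙 W ≫ fst _ _ ≫ snd _ _)
  let f : W ⟶ U := Over.homMk (IsOpenImmersion.lift B.ι (cellHom R).left hr) (by
    show IsOpenImmersion.lift B.ι (cellHom R).left hr ≫ B.ι ≫ (SL R).hom = _
    rw [IsOpenImmersion.lift_fac_assoc, Over.w])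
  have hf : f ≫ ι' = cellHom R := Over.OverMorphism.ext (IsOpenImmersion.lift_fac _ _ _)
  have hfg : f ≫ g = 𝟙 W := by
    have e := congrArg mat (show (f ≫ g) ≫ cellHom R = 𝟙 W ≫ cellHom R by
      rw [Category.assoc, hg, hf, Category.id_comp])
    rw [mat_cell, mat_cell] at e
    have e00 : Red.gmFn ((f ≫ g) ≫ fst _ _ ≫ snd _ _) = Red.gmFn (𝟙 W ≫ fst _ _ ≫ snd _ _) := by
      simpa using congrFun (congrFun e 0) 0
    have e01 := congrFun (congrFun e 0) 1
    have e10 := congrFun (congrFun e 1) 0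
    simp only [Matrix.of_apply, Matrix.cons_val', Matrix.cons_val_zero, Matrix.cons_val_one,
      Matrix.cons_val_fin_one, e00] at e01 e10
    have hu := GmPts.isUnit_gmFn (𝟙 W ≫ fst _ _ ≫ snd _ _)
    apply CartesianMonoidalCategory.hom_ext
    · apply CartesianMonoidalCategory.hom_ext
      · rw [Category.assoc, Category.assoc]
        exact GaPts.gaFn_injective (hu.mul_right_cancel e10)
      · rw [Category.assoc, Category.assoc]
        exact GmPts.gmFn_injective e00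
    · exact GaPts.gaFn_injective (hu.mul_left_cancel e01)
  have hgf : g ≫ f = 𝟙 U := (cancel_mono ι').1 (by rw [Category.assoc, hf, hg, Category.id_comp])
  haveI : IsIso f := ⟨g, hfg, hgf⟩
  haveI : IsIso f.left := inferInstanceAs (IsIso ((Over.forget _).map f))
  rw [← hf]
  exact inferInstanceAs (IsOpenImmersion (f.left ≫ B.ι))

section Fibre

variable (s : ↥(Spec (CommRingCat.of R)))

theorem exists_unit_pt : ∃ z : 𝟙_ (Over (Spec (CommRingCat.of (AlgebraicClosure ((Spec (CommRingCat.of R)).residueField s))))) ⟶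
    Red.bc (Red.geomPt s) (Red.Gm (Spec (CommRingCat.of R))),
    IsUnit (Red.gmFn (NilAction.toBase (Red.geomPt s) z) * Red.gmFn (NilAction.toBase (Red.geomPt s) z) - 1) := by
  classical
  let K := AlgebraicClosure ((Spec (CommRingCat.of R)).residueField s)
  obtain ⟨c, hc⟩ := Infinite.exists_notMem_finset ({0, 1, -1} : Finset K)
  simp only [Finset.mem_insert, Finset.mem_singleton, not_or] at hc
  let e : K →+* Γ(Spec (CommRingCat.of K), ⊤) := (Scheme.ΓSpecIso (CommRingCat.of K)).inv.hom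
  refine ⟨NilAction.ofBase (Red.geomPt s) (GmPts.ptOfUnit ((Units.mk0 c hc.1).map e.toMonoidHom)), ?_⟩
  rw [NilAction.toBase_ofBase, GmPts.gmFn_ptOfUnit]
  show IsUnit (e c * e c - 1)
  rw [← map_one e, ← map_mul, ← map_sub]
  refine (IsUnit.mk0 _ fun h => ?_).map e
  rcases (show c = 1 ∨ c = -1 from sq_eq_one_iff.1 (by linear_combination h)) with h | h
  · exact hc.2.1 h
  · exact hc.2.2 h

theorem map_rt_ne_one : (Over.pullback (Red.geomPt s)).map (rt R) ≠ 1 := fun h => by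
  obtain ⟨z, hz⟩ := exists_unit_pt R s
  have h1 := congrArg (fun φ => Red.gmFn (NilAction.toBase (Red.geomPt s) (z ≫ φ))) h
  simp only [MonObj.comp_one, Groth.L14.RankOne.toBase_comp_map, gmFn_rt, NilAction.toBase_one, GmPts.gmFn_one] at h1
  rw [h1, sub_self] at hz
  obtain ⟨p⟩ : Nonempty ↥(Spec (CommRingCat.of (AlgebraicClosure ((Spec (CommRingCat.of R)).residueField s)))) :=
    inferInstance
  haveI : Nontrivial Γ(Spec (CommRingCat.of (AlgebraicClosure ((Spec (CommRingCat.of R)).residueField s))), ⊤) :=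
    (Scheme.ΓSpecIso _).commRingCatIsoToRingEquiv.toEquiv.nontrivial
  exact @not_isUnit_zero Γ(Spec (CommRingCat.of (AlgebraicClosure ((Spec (CommRingCat.of R)).residueField s))), ⊤) _
    _ hz

theorem isMaximalTorus_tor : Red.IsMaximalTorus (tor R) := by
  refine ⟨inferInstance, inferInstance, TorLift.isTorus_of_iso (TorLift.dsCongr _
    (Module.finBasis ℤ ℤ).equivFun.toAddEquiv).symm (Groth.L08.Borel.isTorus_ds _ _), fun s T' _ j _ _ f hT hf => ?_⟩
  obtain ⟨haff, -, -, -, hcomm⟩ := Groth.L08.Borel.torus_props hT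
  let p := Red.geomPt s
  obtain ⟨z₀, hz₀⟩ := exists_unit_pt R s
  let z : T' ⟶ Red.bc p (Red.Gm (Spec (CommRingCat.of R))) := toUnit T' ≫ z₀
  let zb := NilAction.toBase p z
  have hzu : IsUnit (Red.gmFn zb * Red.gmFn zb - 1) := by
    let zb0 := NilAction.toBase p z₀
    let a0 := Red.gmFn zb0
    have e : Red.gmFn zb = (toUnit T').left.appTop a0 := by
      rw [show zb = _ from CentralLift.toBase_comp p _ _]
      exact GmPts.gmFn_comp _ _
    rw [e, ← map_mul, ← map_one (toUnit T').left.appTop.hom, ← map_sub]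
    exact hz₀.map _
  have hc := congrArg (bmat p) ((MonObj.mul_comp (𝟙 T') (z ≫ f) j).symm.trans
    ((congrArg (· ≫ j) (hcomm _ (𝟙 T') (z ≫ f))).trans (MonObj.mul_comp (z ≫ f) (𝟙 T') j)))
  rw [bmat_mul, bmat_mul, Category.id_comp, Category.assoc, hf,
    show bmat p (z ≫ (Over.pullback p).map (tor R)) = dMat zb from by
      rw [bmat, Groth.L14.RankOne.toBase_comp_map]; exact mat_tor _] at hc
  let M := bmat p j
  have h := GmPts.gmFn_inv zb
  have c01 := congrFun (congrFun hc 0) 1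
  have c10 := congrFun (congrFun hc 1) 0
  simp [Matrix.mul_apply, Fin.sum_univ_two, dMat] at c01 c10
  have h01 : M 0 1 = 0 := by
    refine hzu.mul_left_eq_zero.1 ?_
    linear_combination -(Red.gmFn zb) * c01 + (M 0 1) * h
  have h10 : M 1 0 = 0 := by
    refine hzu.mul_left_eq_zero.1 ?_
    linear_combination (Red.gmFn zb) * c10 + (M 1 0) * h
  have hd : M 0 0 * M 1 1 = 1 := by
    have := det_bmat p j
    rw [Matrix.det_fin_two] at this
    simpa [M, show bmat p j 0 1 = 0 from h01] using this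
  let u : (Γ(T'.left, ⊤))ˣ := ⟨M 0 0, M 1 1, hd, by rw [_root_.mul_comm]; exact hd⟩
  let g : T' ⟶ Red.bc p (Red.Gm (Spec (CommRingCat.of R))) :=
    NilAction.ofBase p (GmPts.ptOfUnit (T := Over.mk (T'.hom ≫ p)) u)
  have hg : g ≫ (Over.pullback p).map (tor R) = j := by
    refine bmat_injective p ?_
    rw [bmat, Groth.L14.RankOne.toBase_comp_map, NilAction.toBase_ofBase, mat_tor, dMat, GmPts.gmFn_ptOfUnit]
    have hi : Red.gmFn (GmPts.ptOfUnit (T := Over.mk (T'.hom ≫ p)) (S := Spec (CommRingCat.of R)) u)⁻¹ = M 1 1 := by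
      have h' := GmPts.gmFn_inv (GmPts.ptOfUnit (T := Over.mk (T'.hom ≫ p)) (S := Spec (CommRingCat.of R)) u)
      rw [GmPts.gmFn_ptOfUnit] at h'
      exact left_inv_eq_right_inv h' hd
    rw [hi]
    ext i k
    fin_cases i <;> fin_cases k <;> simp [u] <;> first | rfl | exact h01.symm | exact h10.symm
  haveI : Mono ((Over.pullback p).map (tor R)) := (Over.pullback p).map_mono _
  refine ⟨g, (cancel_mono ((Over.pullback p).map (tor R))).1 ?_, (cancel_mono j).1 ?_⟩
  · rw [Category.assoc, hg, hf, Category.id_comp]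
  · rw [Category.assoc, hf, hg, Category.id_comp]

end Fibre

end Groth.L14.SL2
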